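import Mathlib
import Cfsg.Prelude.Def_TwoFusion
import Cfsg.Agent.Lib.Invol.Basic
import Cfsg.Agent.Lib.Invol.BrauerSuzuki
import Cfsg.Agent.Lib.StructB.CyclicIntersectionRadical

/-!
Groups without nontrivial solvable normal subgroups in which every nontrivial subgroup of a cyclic
subgroup of even order has the normalizer of that subgroup.
-/

set_option autoImplicit false
set_option linter.unusedSectionVars false

namespace CfsgLib.NormEven

open CfsgLib.Invol

universe u

variable {G : Type u} [Group G]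

/-- The standing hypotheses. -/
structure Hyp (G : Type u) [Group G] : Prop where
  hss : ∀ N : Subgroup G, N.Normal → Group.IsSolvable ↥N → N = ⊥
  hii : ∀ X : Subgroup G, IsCyclic ↥X → Even (Nat.card ↥X) → ∀ Y : Subgroup G, Y ≤ X → Y ≠ ⊥ →
    Subgroup.normalizer (X : Set G) = Subgroup.normalizer (Y : Set G)

/-- The centralizer of an element. -/
abbrev C (t : G) : Subgroup G := Subgroup.centralizer ({t} : Set G)

theorem mem_C {g t : G} : g ∈ C t ↔ Commute g t := Subgroup.mem_centralizer_singleton_iff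

theorem mem_C_conj {g t x : G} : x ∈ C (g * t * g⁻¹) ↔ g⁻¹ * x * g ∈ C t := by
  rw [mem_C, mem_C]
  constructor
  · intro h
    simpa [mul_assoc] using h.map (MulAut.conj g⁻¹).toMonoidHom
  · intro h
    simpa [mul_assoc] using h.map (MulAut.conj g).toMonoidHom

/-- An element of a cyclic group of squares fixes or inverts it. -/
theorem conj_eq_or_inv {y z t : G} (ht : orderOf t = 2) (hy : y * y = t)
    (hz : z ∈ Subgroup.zpowers y) (hz2 : z * z = t) : z = y ∨ z = y⁻¹ := by
  have ht2 := invol_mul_self ht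
  have h4 : y ^ (4 : ℤ) = 1 := by
    rw [show (4 : ℤ) = ((4 : ℕ) : ℤ) by rfl, zpow_natCast, show 4 = 2 * 2 by rfl, pow_mul, pow_two y,
      hy, pow_two, ht2]
  obtain ⟨n, rfl⟩ := Subgroup.mem_zpowers_iff.1 hz
  have hn : y ^ n = y ^ (n % 4) := by
    conv_lhs => rw [← Int.emod_add_mul_ediv n 4, zpow_add, zpow_mul, h4, one_zpow, mul_one]
  have h1 : n % 4 = 0 ∨ n % 4 = 1 ∨ n % 4 = 2 ∨ n % 4 = 3 := by omega
  rcases h1 with h | h | h | h <;> rw [hn, h] at hz2 ⊢
  · exact absurd (by simpa using hz2.symm) (invol_ne_one ht)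
  · exact Or.inl (zpow_one y)
  · rw [zpow_two, hy, ht2] at hz2
    exact absurd hz2.symm (invol_ne_one ht)
  · refine Or.inr (eq_inv_of_mul_eq_one_left ?_)
    rw [← zpow_add_one]
    exact h4

theorem root_ne_inv {y t : G} (ht : orderOf t = 2) (hy : y * y = t) : y ≠ y⁻¹ := fun h =>
  invol_ne_one ht (by rw [← hy]; nth_rewrite 1 [h]; exact inv_mul_cancel y)

theorem root_orderOf {y t : G} (ht : orderOf t = 2) (hy : y * y = t) : orderOf y = 4 := by
  have : Fact (Nat.Prime 2) := ⟨Nat.prime_two⟩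
  refine orderOf_eq_prime_pow (p := 2) (n := 1) ?_ ?_
  · rw [pow_one, pow_two, hy]; exact invol_ne_one ht
  · rw [show 2 ^ (1 + 1) = 2 * 2 by rfl, pow_mul, pow_two y, hy, pow_two, invol_mul_self ht]

/-- An automorphism of order two of a group of odd prime order fixes or inverts. -/
theorem fix_or_invert {s a : G} (hs : s * s = 1) {p : ℕ} (hp : p.Prime) (ha : orderOf a = p)
    (hconj : s * a * s⁻¹ ∈ Subgroup.zpowers a) : Commute s a ∨ s * a * s⁻¹ = a⁻¹ := by
  have : Fact p.Prime := ⟨hp⟩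
  obtain ⟨n, hn⟩ := Subgroup.mem_zpowers_iff.1 hconj
  have h2 : a ^ (n * n) = a := by
    rw [zpow_mul, hn, conj_zpow, hn, show s * (s * a * s⁻¹) * s⁻¹ = s * s * a * (s * s)⁻¹ by group,
      hs, one_mul, inv_one, mul_one]
  have h3 : ((n * n : ℤ) : ZMod p) = ((1 : ℤ) : ZMod p) := by
    rw [ZMod.intCast_eq_intCast_iff, ← ha, ← zpow_eq_zpow_iff_modEq, h2, zpow_one]
  push_cast at h3
  rcases mul_self_eq_one_iff.1 h3 with h | h
  · left
    have h4 : a ^ n = a ^ (1 : ℤ) := by
      rw [zpow_eq_zpow_iff_modEq, ha, ← ZMod.intCast_eq_intCast_iff]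
      simpa using h
    rw [zpow_one, hn] at h4
    exact mul_inv_eq_iff_eq_mul.1 h4
  · right
    have h4 : a ^ n = a ^ (-1 : ℤ) := by
      rw [zpow_eq_zpow_iff_modEq, ha, ← ZMod.intCast_eq_intCast_iff]
      simpa using h
    rw [zpow_neg, zpow_one, hn] at h4
    exact h4

/-- Two involutions inverting an element have a product centralizing it. -/
theorem commute_mul_of_invert {s r a : G} (hs : s * a * s⁻¹ = a⁻¹) (hr : r * a * r⁻¹ = a⁻¹) :
    Commute (s * r) a := by
  refine mul_inv_eq_iff_eq_mul.1 ?_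
  rw [show s * r * a * (s * r)⁻¹ = s * (r * a * r⁻¹) * s⁻¹ by group, hr,
    show s * a⁻¹ * s⁻¹ = (s * a * s⁻¹)⁻¹ by group, hs, inv_inv]

theorem invol_mul {s r : G} (hs : orderOf s = 2) (hr : orderOf r = 2) (hc : Commute s r)
    (hne : s ≠ r) : orderOf (s * r) = 2 := by
  refine invol_of_mul_self ?_ fun h => hne ?_
  · rw [hc.symm.mul_mul_mul_comm, invol_mul_self hs, invol_mul_self hr, one_mul]
  · rw [← invol_inv hr]
    exact eq_inv_of_mul_eq_one_left h

variable [Finite G]

/-- A subgroup without elements of odd prime order is a `2`-group. -/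
theorem isPGroup_of_no_odd {H : Subgroup G}
    (h : ∀ p : ℕ, p.Prime → p ≠ 2 → ∀ b ∈ H, orderOf b = p → False) : IsPGroup 2 H := by
  refine IsPGroup.of_card (Nat.eq_prime_pow_of_unique_prime_dvd Nat.card_pos.ne'
    fun {p} hp hd => ?_)
  by_contra h2
  have : Fact p.Prime := ⟨hp⟩
  obtain ⟨b, hb⟩ := exists_prime_orderOf_dvd_card' p hd
  exact h p hp h2 b b.2 ((Subgroup.orderOf_coe b).trans hb)

theorem no_odd_of_isPGroup {H : Subgroup G} (hH : IsPGroup 2 H) {p : ℕ} (hp : p.Prime)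
    (h2 : p ≠ 2) {b : G} (hb : b ∈ H) (ho : orderOf b = p) : False := by
  obtain ⟨k, hk⟩ := hH ⟨b, hb⟩
  have h1 : p ∣ 2 ^ k := ho ▸ orderOf_dvd_of_pow_eq_one (congrArg Subtype.val hk)
  exact h2 ((Nat.prime_dvd_prime_iff_eq hp Nat.prime_two).1 (hp.dvd_of_dvd_pow h1))

theorem isPGroup_C_conj {t g : G} (h : IsPGroup 2 (C t)) : IsPGroup 2 (C (g * t * g⁻¹)) := by
  intro x
  obtain ⟨k, hk⟩ := h ⟨g⁻¹ * x * g, mem_C_conj.1 x.2⟩
  refine ⟨k, Subtype.ext ?_⟩
  have h1 : (g⁻¹ * x * g⁻¹⁻¹) ^ 2 ^ k = 1 := by rw [inv_inv]; exact congrArg Subtype.val hk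
  rw [conj_pow] at h1
  exact conj_eq_one_iff.1 h1

namespace Hyp

variable (h : Hyp G)
include h

theorem zpowers_normalizer {g y : G} (he : Even (orderOf g)) (hy : y ∈ Subgroup.zpowers g)
    (hy1 : y ≠ 1) : Subgroup.normalizer (Subgroup.zpowers g : Set G) =
      Subgroup.normalizer (Subgroup.zpowers y : Set G) :=
  h.hii _ inferInstance (by rwa [Nat.card_zpowers]) _ (Subgroup.zpowers_le.2 hy)
    (by simpa [Subgroup.zpowers_eq_bot] using hy1)

omit h in
theorem normalizer_invol {t : G} (ht : orderOf t = 2) :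
    Subgroup.normalizer (Subgroup.zpowers t : Set G) = C t := by
  have key : ∀ g : G, g * t * g⁻¹ ∈ Subgroup.zpowers t → Commute g t := by
    intro g hg
    obtain ⟨n, hn⟩ := Subgroup.mem_zpowers_iff.1 hg
    refine mul_inv_eq_iff_eq_mul.1 (hn.symm.trans ?_)
    rcases Int.even_or_odd n with ⟨k, rfl⟩ | ⟨k, rfl⟩
    · rw [zpow_add, ← (Commute.refl t).mul_zpow, invol_mul_self ht, one_zpow] at hn
      exact absurd (conj_eq_one_iff.1 hn.symm) (invol_ne_one ht)
    · rw [zpow_add_one, two_mul, zpow_add, ← (Commute.refl t).mul_zpow, invol_mul_self ht,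
        one_zpow, one_mul]
  ext g
  constructor
  · intro hg
    exact mem_C.2 (key g ((Subgroup.mem_normalizer_iff.1 hg t).1 (Subgroup.mem_zpowers t)))
  · intro hg
    rw [mem_C] at hg
    have hz : ∀ x ∈ Subgroup.zpowers t, g * x * g⁻¹ = x := by
      intro x hx
      obtain ⟨n, rfl⟩ := Subgroup.mem_zpowers_iff.1 hx
      rw [(hg.zpow_right n).eq, mul_inv_cancel_right]
    refine Subgroup.mem_normalizer_iff.2 fun x => ⟨fun hx => (hz x hx).symm ▸ hx, fun hx => ?_⟩
    have h1 : g⁻¹ * (g * x * g⁻¹) * g⁻¹⁻¹ = g * x * g⁻¹ := by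
      obtain ⟨n, hn⟩ := Subgroup.mem_zpowers_iff.1 hx
      rw [← hn, (hg.inv_left.zpow_right n).eq, mul_inv_cancel_right]
    rw [show g⁻¹ * (g * x * g⁻¹) * g⁻¹⁻¹ = x by group] at h1
    rw [h1]
    exact hx

theorem normalizer_eq {g y t : G} (ht : orderOf t = 2) (htg : t ∈ Subgroup.zpowers g)
    (hy : y ∈ Subgroup.zpowers g) (hy1 : y ≠ 1) :
    Subgroup.normalizer (Subgroup.zpowers y : Set G) = C t := by
  have he : Even (orderOf g) := by
    rw [even_iff_two_dvd, ← ht, ← Nat.card_zpowers t, ← Nat.card_zpowers g]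
    exact Subgroup.card_dvd_of_le (Subgroup.zpowers_le.2 htg)
  rw [← h.zpowers_normalizer he hy hy1, h.zpowers_normalizer he htg (invol_ne_one ht),
    normalizer_invol ht]

theorem odd_normalizer {a t : G} (ht : orderOf t = 2) (hc : Commute a t)
    (ha : Odd (orderOf a)) (ha1 : a ≠ 1) :
    Subgroup.normalizer (Subgroup.zpowers a : Set G) = C t := by
  obtain ⟨m, hm⟩ := ha
  have htm : t ^ (orderOf a) = t := by
    rw [hm, pow_succ, pow_mul, pow_two, invol_mul_self ht, one_pow, one_mul]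
  have h1 : (a * t) ^ (orderOf a) = t := by rw [hc.mul_pow, pow_orderOf_eq_one, one_mul, htm]
  have htat : t ∈ Subgroup.zpowers (a * t) := by
    have h2 := Subgroup.npow_mem_zpowers (a * t) (orderOf a)
    rwa [h1] at h2
  refine h.normalizer_eq ht htat ?_ ha1
  have := mul_mem (Subgroup.mem_zpowers (a * t)) (inv_mem htat)
  rwa [mul_inv_cancel_right] at this

theorem odd_conj {a t g : G} (ht : orderOf t = 2) (hc : Commute a t) (ha : Odd (orderOf a))
    (ha1 : a ≠ 1) (hg : Commute g t) : g * a * g⁻¹ ∈ Subgroup.zpowers a := by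
  have h1 : g ∈ Subgroup.normalizer (Subgroup.zpowers a : Set G) := by
    rw [h.odd_normalizer ht hc ha ha1]; exact mem_C.2 hg
  exact (Subgroup.mem_normalizer_iff.1 h1 a).1 (Subgroup.mem_zpowers a)

theorem cent_eq {a t s : G} (ht : orderOf t = 2) (hs : orderOf s = 2) (h1 : Commute a t)
    (h2 : Commute a s) (ha : Odd (orderOf a)) (ha1 : a ≠ 1) : C t = C s :=
  (h.odd_normalizer ht h1 ha ha1).symm.trans (h.odd_normalizer hs h2 ha ha1)

theorem prime_cases {p : ℕ} (hp : p.Prime) (hp2 : p ≠ 2) {b t s : G} (hb : orderOf b = p)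
    (ht : orderOf t = 2) (hbt : Commute b t) (hs : orderOf s = 2) (hst : Commute s t) :
    Commute s b ∨ s * b * s⁻¹ = b⁻¹ :=
  fix_or_invert (invol_mul_self hs) hp hb (h.odd_conj ht hbt (hb ▸ hp.odd_of_ne_two hp2)
    (fun e => hp.one_lt.ne' (by rw [← hb, e, orderOf_one])) hst)

theorem root_normalizer {y t : G} (ht : orderOf t = 2) (hy : y * y = t) :
    Subgroup.normalizer (Subgroup.zpowers y : Set G) = C t :=
  h.normalizer_eq ht (hy ▸ mul_mem (Subgroup.mem_zpowers y) (Subgroup.mem_zpowers y))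
    (Subgroup.mem_zpowers y)
    (fun e => invol_ne_one ht (by rw [← hy, e, one_mul]))

theorem root_conj {y t g : G} (ht : orderOf t = 2) (hy : y * y = t) (hg : Commute g t) :
    g * y * g⁻¹ = y ∨ g * y * g⁻¹ = y⁻¹ := by
  have h1 : g ∈ Subgroup.normalizer (Subgroup.zpowers y : Set G) := by
    rw [h.root_normalizer ht hy]; exact mem_C.2 hg
  refine conj_eq_or_inv ht hy ((Subgroup.mem_normalizer_iff.1 h1 y).1 (Subgroup.mem_zpowers y)) ?_
  rw [show g * y * g⁻¹ * (g * y * g⁻¹) = g * (y * y) * g⁻¹ by group, hy, hg.eq,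
    mul_inv_cancel_right]

theorem root_odd_commute {y t b : G} (ht : orderOf t = 2) (hy : y * y = t) (hb : Commute b t)
    (hodd : Odd (orderOf b)) : Commute b y := by
  rcases h.root_conj ht hy hb with e | e
  · exact mul_inv_eq_iff_eq_mul.1 e
  · exfalso
    obtain ⟨m, hm⟩ := hodd
    have h2 : Commute (b * b) y := commute_mul_of_invert e e
    have h3 : b * y * b⁻¹ = y := by
      have hb' : b = (b * b) ^ (m + 1) := by
        rw [← pow_two, ← pow_mul, show 2 * (m + 1) = orderOf b + 1 by omega, pow_succ,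
          pow_orderOf_eq_one, one_mul]
      rw [hb', (h2.pow_left (m + 1)).eq, mul_inv_cancel_right]
    exact root_ne_inv ht hy (h3.symm.trans e)

theorem oddCore_eq_bot : Cfsg.oddCore G = ⊥ := by
  refine sSup_eq_bot.2 ?_
  rintro N ⟨hN, hodd⟩
  exact h.hss N hN (CfsgLib.StructB.CycInt.solvable_odd (Nat.coprime_two_right.1 hodd))

theorem exists_conj_commute {t : G} (ht : orderOf t = 2) :
    ∃ g : G, Commute t (g * t * g⁻¹) ∧ g * t * g⁻¹ ≠ t := by
  by_contra! hcon
  have hiso : Cfsg.IsIsolatedInvolution t := ⟨ht, fun g hg => hcon g hg⟩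
  have hc : ∀ g : G, Commute g t := fun g => by
    have h1 := zstar G hiso g
    rw [h.oddCore_eq_bot, Subgroup.mem_bot] at h1
    exact (mul_inv_eq_iff_eq_mul.1 (mul_inv_eq_one.1 h1)).symm
  have hn : (Subgroup.zpowers t).Normal := ⟨fun x hx g => by
    obtain ⟨n, rfl⟩ := Subgroup.mem_zpowers_iff.1 hx
    rw [((hc g).zpow_right n).eq, mul_inv_cancel_right]; exact hx⟩
  have := h.hss _ hn (Group.isSolvable_of_comm fun a b => Subtype.ext (by
    obtain ⟨m, hm⟩ := Subgroup.mem_zpowers_iff.1 a.2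
    obtain ⟨n, hn'⟩ := Subgroup.mem_zpowers_iff.1 b.2
    simp only [Subgroup.coe_mul, ← hm, ← hn', ← zpow_add, add_comm]))
  exact invol_ne_one ht (Subgroup.zpowers_eq_bot.1 this)

theorem exists_conj_not_commute {t : G} (ht : orderOf t = 2) :
    ∃ g : G, ¬ Commute (g * t * g⁻¹) t := by
  by_contra! hcon
  set S := Set.range fun g : G => g * t * g⁻¹
  have hS : ∀ a ∈ S, ∀ b ∈ S, Commute a b := by
    rintro _ ⟨g, rfl⟩ _ ⟨k, rfl⟩
    have := (hcon (g⁻¹ * k)).symm.map (MulAut.conj g).toMonoidHom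
    simpa [mul_assoc] using this
  have hn : (Subgroup.closure S).Normal := by
    refine ⟨fun x hx g => ?_⟩
    have hle : (Subgroup.closure S).map (MulAut.conj g).toMonoidHom ≤ Subgroup.closure S := by
      rw [MonoidHom.map_closure]
      refine Subgroup.closure_mono ?_
      rintro _ ⟨_, ⟨k, rfl⟩, rfl⟩
      exact ⟨g * k, by simp [mul_assoc]⟩
    exact hle ⟨x, hx, rfl⟩
  have h1 : Subgroup.closure S ≤ Subgroup.centralizer S := (Subgroup.closure_le _).2 fun a ha =>
    Subgroup.mem_centralizer_iff.2 fun b hb => hS b hb a ha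
  have h2 : Subgroup.closure S ≤ Subgroup.centralizer (Subgroup.closure S : Set G) := fun a ha => by
    rw [Subgroup.centralizer_closure]; exact h1 ha
  have : IsMulCommutative (Subgroup.closure S) := ⟨⟨fun a b => Subtype.ext
    (Subgroup.mem_centralizer_iff.1 (h2 b.2) a a.2)⟩⟩
  have hsolv : Group.IsSolvable (Subgroup.closure S) := Group.isSolvable_of_comm fun a b =>
    this.is_comm.comm a b
  have h3 := h.hss _ hn hsolv
  have h4 : t ∈ Subgroup.closure S := Subgroup.subset_closure ⟨1, by simp⟩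
  exact invol_ne_one ht (Subgroup.mem_bot.1 (h3 ▸ h4))

end Hyp

/-- The hypotheses, and no involution shares its centralizer with all involutions centralizing it. -/
structure Hyp2 (G : Type u) [Group G] : Prop extends Hyp G where
  nc : ∀ t : G, orderOf t = 2 → ∃ r : G, orderOf r = 2 ∧ Commute r t ∧ C r ≠ C t

end CfsgLib.NormEven
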