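import Cfsg.Agent.Lib.InvChar.NormEven.Struct
import Cfsg.Agent.Lib.InvChar.BSWSmall
import Cfsg.Agent.Lib.Transfer.Thompson
import Cfsg.Agent.Lib.Solvable.PCore
import Cfsg.Agent.Lib.Comp.Subnormal

/-!
Classes of involutions: one class, or a subgroup of index two with one class; simplicity.
-/

set_option autoImplicit false
set_option linter.unusedSectionVars false

namespace CfsgLib.NormEven

open CfsgLib.Invol

universe u

/-- Squares in an abelian group with exactly one involution have index two. -/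
theorem sq_or {G : Type u} [Group G] [Finite G] (K : Subgroup G) (hc : ∀ a ∈ K, ∀ b ∈ K, a * b = b * a)
    {t : G} (ht : orderOf t = 2) (htK : t ∈ K)
    (huniq : ∀ x ∈ K, x * x = 1 → x = 1 ∨ x = t) {a b : G} (ha : a ∈ K) (hb : b ∈ K) :
    (∃ k ∈ K, k * k = a) ∨ (∃ k ∈ K, k * k = b) ∨ ∃ k ∈ K, k * k = a * b := by
  let f : K →* K :=
    { toFun := fun k => k * k
      map_one' := one_mul 1
      map_mul' := fun x y => by
        have e : Commute x y := Subtype.ext (hc x x.2 y y.2)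
        exact e.symm.mul_mul_mul_comm x y }
  have hker : Nat.card f.ker = 2 := by
    rw [Nat.card_eq_two_iff' (1 : f.ker)]
    refine ⟨⟨⟨t, htK⟩, Subtype.ext (invol_mul_self ht)⟩, fun e => invol_ne_one ht
      (congrArg (fun z : f.ker => ((z : K) : G)) e), fun z hz => ?_⟩
    have h1 : ((z : K) : G) * ((z : K) : G) = 1 := congrArg Subtype.val (MonoidHom.mem_ker.1 z.2)
    rcases huniq _ (z : K).2 h1 with e | e
    · exact absurd (Subtype.ext (Subtype.ext e)) hz
    · exact Subtype.ext (Subtype.ext e)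
  have hidx : f.range.index = 2 := by
    have h1 := f.range.index_mul_card
    have h2 : Nat.card f.ker * Nat.card f.range = Nat.card K := by
      rw [← Subgroup.index_ker f, Subgroup.card_mul_index]
    rw [hker] at h2
    have h3 : 0 < Nat.card f.range := Nat.card_pos
    exact Nat.eq_of_mul_eq_mul_right h3 (h1.trans h2.symm)
  have key : ∀ z : K, z ∈ f.range → ∃ k ∈ K, k * k = (z : G) := by
    rintro z ⟨k, rfl⟩; exact ⟨k, k.2, rfl⟩
  by_cases h1 : (⟨a, ha⟩ : K) ∈ f.range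
  · exact Or.inl (key _ h1)
  by_cases h2 : (⟨b, hb⟩ : K) ∈ f.range
  · exact Or.inr (Or.inl (key _ h2))
  exact Or.inr (Or.inr (key (⟨a, ha⟩ * ⟨b, hb⟩)
    ((Subgroup.mul_mem_iff_of_index_two hidx).2 (iff_of_false h1 h2))))

/-- A semisimple group in the Brauer-Suzuki-Wall situation is simple. -/
theorem isSimple_of_setup {X : Type u} [Group X] [Finite X] [Nontrivial X] {t s : X} {K : Subgroup X}
    (hss : ∀ N : Subgroup X, N.Normal → Group.IsSolvable ↥N → N = ⊥)
    (S : CfsgLib.InvChar.BSW.Setup t K s) : IsSimpleGroup X := by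
  refine ⟨fun L hL => ?_⟩
  by_cases hbot : L = ⊥
  · exact Or.inl hbot
  right
  have hconjL : ∀ x : X, ∀ l ∈ L, x * l * x⁻¹ ∈ L := fun x l hl => hL.conj_mem l hl x
  have heven : Even (Nat.card L) := by
    by_contra ho
    exact hbot (hss L hL (CfsgLib.StructB.CycInt.solvable_odd (Nat.not_even_iff_odd.1 ho)))
  obtain ⟨i, hi, hio⟩ := exists_invol_mem heven
  have hinvL : ∀ x : X, orderOf x = 2 → x ∈ L := fun x hx => by
    obtain ⟨c, rfl⟩ := isConj_iff.1 (S.hconj i x hio hx)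
    exact hconjL c i hi
  have htL := hinvL t S.ht
  have hsL := hinvL s S.hs
  have hKL : ∀ x ∈ K, x ∈ L := fun x hx => by
    have := mul_mem (hinvL _ (S.mul_s_invol hx)) hsL
    rwa [mul_assoc, invol_mul_self S.hs, mul_one] at this
  have hCL : ∀ x : X, Commute x t → x ∈ L := fun x hx => by
    rcases S.mem_H.1 (Subgroup.mem_centralizer_singleton_iff.2 hx) with e | e
    · exact hKL x e
    · have := mul_mem (hKL _ e) hsL
      rwa [mul_assoc, invol_mul_self S.hs, mul_one] at this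
  -- `t` is not isolated in `L`
  obtain ⟨l, hl, hlc, hlne⟩ : ∃ l ∈ L, Commute t (l * t * l⁻¹) ∧ l * t * l⁻¹ ≠ t := by
    by_contra! hcon
    have hiso : Cfsg.IsIsolatedInvolution (⟨t, htL⟩ : L) := by
      refine ⟨(Subgroup.orderOf_mk t htL).trans S.ht, fun g hg => Subtype.ext ?_⟩
      exact hcon g g.2 (by simpa using hg.map L.subtype)
    have : (Cfsg.oddCore L).Characteristic := CfsgLib.Solvable.pPrimeCore_characteristic 2 L
    have hON : ((Cfsg.oddCore L).map L.subtype).Normal := inferInstance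
    have hO : (Cfsg.oddCore L).map L.subtype = ⊥ := hss _ hON
      (CfsgLib.StructB.CycInt.solvable_odd (by
        rw [Subgroup.card_map_of_injective L.subtype_injective]
        exact Nat.coprime_two_right.1 (CfsgLib.Solvable.pPrimeCore_coprime (G := L) 2)))
    have hLC : ∀ g ∈ L, Commute g t := fun g hg => by
      have h1 := zstar L hiso ⟨g, hg⟩
      have h2 : t * g * t⁻¹ * g⁻¹ = 1 := by
        rw [← Subgroup.mem_bot, ← hO]
        exact ⟨_, h1, rfl⟩
      exact (mul_inv_eq_iff_eq_mul.1 (mul_inv_eq_one.1 h2)).symm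
    refine invol_ne_one S.ht ?_
    have hn : (Subgroup.closure (Set.range fun x : X => x * t * x⁻¹)).Normal := by
      refine ⟨fun y hy g => ?_⟩
      have hle : (Subgroup.closure (Set.range fun x : X => x * t * x⁻¹)).map
          (MulAut.conj g).toMonoidHom ≤ Subgroup.closure (Set.range fun x : X => x * t * x⁻¹) := by
        rw [MonoidHom.map_closure]
        refine Subgroup.closure_mono ?_
        rintro _ ⟨_, ⟨k, rfl⟩, rfl⟩
        exact ⟨g * k, by simp [mul_assoc]⟩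
      exact hle ⟨y, hy, rfl⟩
    have hcomm : ∀ a ∈ Set.range (fun x : X => x * t * x⁻¹), ∀ b ∈ Set.range (fun x : X => x * t * x⁻¹),
        a * b = b * a := by
      rintro _ ⟨a, rfl⟩ _ ⟨b, rfl⟩
      have h1 := (hLC ((a⁻¹ * b) * t * (a⁻¹ * b)⁻¹) (hconjL _ t htL)).symm.map
        (MulAut.conj a).toMonoidHom
      simpa [mul_assoc] using h1.eq
    have := Subgroup.isMulCommutative_closure hcomm
    have h3 := hss _ hn (Group.isSolvable_of_comm fun a b => this.is_comm.comm a b)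
    exact Subgroup.mem_bot.1 (h3 ▸ Subgroup.subset_closure ⟨1, by simp⟩)
  set v := l * t * l⁻¹ with hv
  have hvo : orderOf v = 2 := by rw [hv, orderOf_conj_eq, S.ht]
  have hvK : v * s ∈ K := (S.invol_in_H (Subgroup.mem_centralizer_singleton_iff.2 hlc.symm) hvo).resolve_left hlne
  have huniq : ∀ x ∈ K, x * x = 1 → x = 1 ∨ x = t := fun x hx => S.eq_of_sq hx
  have hodd : Odd L.index := by
    rw [← Nat.not_even_iff_odd]
    intro hev
    have : Fact (Nat.Prime 2) := ⟨Nat.prime_two⟩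
    obtain ⟨P, hP⟩ : ∃ P : Sylow 2 X, ¬ (P : Subgroup X) ≤ L := by
      by_contra! hcon
      obtain ⟨P⟩ : Nonempty (Sylow 2 X) := inferInstance
      exact P.not_dvd_index ((even_iff_two_dvd.1 hev).trans (Subgroup.index_dvd_of_le (hcon P)))
    apply hP
    intro x hx
    have : Nontrivial (P : Subgroup X) := by
      rw [Subgroup.nontrivial_iff_ne_bot]
      intro e
      exact hP (e ▸ bot_le)
    have hcn := IsPGroup.center_nontrivial P.isPGroup'
    obtain ⟨n, hn⟩ := IsPGroup.iff_card.1 (P.isPGroup'.to_subgroup (Subgroup.center (P : Subgroup X)))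
    have hn0 : n ≠ 0 := by
      rintro rfl
      have := Finite.one_lt_card_iff_nontrivial.2 hcn
      omega
    obtain ⟨z, hz, hzo⟩ := exists_invol_mem (H := Subgroup.center (P : Subgroup X))
      (by rw [hn, Nat.even_pow]; exact ⟨even_two, hn0⟩)
    obtain ⟨c, hc⟩ := isConj_iff.1 (S.hconj t z S.ht (by rwa [Subgroup.orderOf_coe]))
    have hxz : Commute x (c * t * c⁻¹) := by
      rw [hc]
      exact congrArg Subtype.val (Subgroup.mem_center_iff.1 hz ⟨x, hx⟩)
    have h1 : Commute (c⁻¹ * x * c) t := by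
      simpa [mul_assoc] using hxz.map (MulAut.conj c⁻¹).toMonoidHom
    have h2 := hconjL c _ (hCL _ h1)
    rwa [show c * (c⁻¹ * x * c) * c⁻¹ = x by group] at h2
  -- conjugates of `t` in `C(t)` come from `L`
  have hphi : ∀ g : X, Commute (g * t * g⁻¹) t → g ∈ L := by
    have hsame : ∀ g : X, ∀ k ∈ K, (g * t * g⁻¹) * v = k * k → g ∈ L := by
      intro g k hk e
      have hvi := invol_inv hvo
      have hkv : v * k * v⁻¹ = k⁻¹ := by
        have e' : v * k * v⁻¹ = (v * s) * (s * k * s⁻¹) * (v * s)⁻¹ := by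
          rw [show (v * s) * (s * k * s⁻¹) * (v * s)⁻¹ = v * (s * s) * k * (v * (s * s))⁻¹ by group,
            invol_mul_self S.hs, mul_one]
        rw [e', S.hinv k hk, S.hcomm _ hvK _ (inv_mem hk), mul_inv_cancel_right]
      have h1 : g * t * g⁻¹ = k * v * k⁻¹ := by
        calc g * t * g⁻¹ = g * t * g⁻¹ * v * v⁻¹ := by group
          _ = k * k * v⁻¹ := by rw [e]
          _ = k * (v * k⁻¹ * v⁻¹) * v := by
            rw [show v * k⁻¹ * v⁻¹ = (v * k * v⁻¹)⁻¹ by group, hkv, inv_inv, hvi]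
          _ = k * v * k⁻¹ := by group
      have h2 : Commute ((k * l)⁻¹ * g) t := by
        refine mul_inv_eq_iff_eq_mul.1 ?_
        rw [show (k * l)⁻¹ * g * t * ((k * l)⁻¹ * g)⁻¹ = (k * l)⁻¹ * (g * t * g⁻¹) * (k * l) by group,
          h1, hv]
        group
      have := mul_mem (mul_mem (hKL k hk) hl) (hCL _ h2)
      rwa [mul_inv_cancel_left] at this
    intro g hg
    have hgo : orderOf (g * t * g⁻¹) = 2 := by rw [orderOf_conj_eq, S.ht]
    rcases S.invol_in_H (Subgroup.mem_centralizer_singleton_iff.2 hg) hgo with e | e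
    · exact hCL g (mul_inv_eq_iff_eq_mul.1 e)
    have hg' : Commute (g⁻¹ * t * g⁻¹⁻¹) t := by
      simpa [mul_assoc] using hg.symm.map (MulAut.conj g⁻¹).toMonoidHom
    set v' := g * t * g⁻¹ with hv'
    set v'' := g⁻¹ * t * g⁻¹⁻¹ with hv''
    have hv''o : orderOf v'' = 2 := by rw [hv'', orderOf_conj_eq, S.ht]
    rcases S.invol_in_H (Subgroup.mem_centralizer_singleton_iff.2 hg') hv''o with e' | e'
    · exact inv_mem_iff.1 (hCL g⁻¹ (mul_inv_eq_iff_eq_mul.1 e'))
    have hss' := invol_mul_self S.hs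
    have hvsi : (v * s)⁻¹ = s * v := by rw [mul_inv_rev, invol_inv hvo, invol_inv S.hs]
    have hp : ∀ w : X, w * s * (v * s)⁻¹ = w * v := fun w => by
      rw [hvsi, ← mul_assoc, mul_assoc w s s, hss', mul_one]
    rcases sq_or K S.hcomm S.ht S.htK huniq
      (mul_mem e (inv_mem hvK)) (mul_mem e' (inv_mem hvK)) with ⟨k, hk, hk2⟩ | ⟨k, hk, hk2⟩ | ⟨k, hk, hk2⟩
    · exact hsame g k hk (by rw [hk2, hp])
    · exact inv_mem_iff.1 (hsame g⁻¹ k hk (by rw [hk2, hp]))
    · -- `v'` and `v''` in one class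
      rw [hp, hp] at hk2
      have hv''K : v'' * v ∈ K := by rw [← hp]; exact mul_mem e' (inv_mem hvK)
      set b := v'' * v with hb
      set j := k * b⁻¹ with hj
      have hjK : j ∈ K := mul_mem hk (inv_mem hv''K)
      have hv''inv : v'' * j * v''⁻¹ = j⁻¹ := by
        have e2 : v'' * j * v''⁻¹ = (v'' * s) * (s * j * s⁻¹) * (v'' * s)⁻¹ := by
          rw [show (v'' * s) * (s * j * s⁻¹) * (v'' * s)⁻¹ = v'' * (s * s) * j * (v'' * (s * s))⁻¹ by
            group, hss', mul_one]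
        rw [e2, S.hinv j hjK, S.hcomm _ e' _ (inv_mem hjK), mul_inv_cancel_right]
      have hab : v' * v * b⁻¹ = v' * v'' := by
        rw [hb, mul_inv_rev, invol_inv hv''o]; group
      have hjj : j * j = v' * v'' := by
        rw [hj, show k * b⁻¹ * (k * b⁻¹) = k * (b⁻¹ * k) * b⁻¹ by group,
          S.hcomm _ (inv_mem hv''K) _ hk, show k * (k * b⁻¹) * b⁻¹ = k * k * b⁻¹ * b⁻¹ by group,
          hk2, mul_inv_cancel_right, hab]
      have h1 : v' = j * v'' * j⁻¹ := by
        calc v' = v' * v'' * v''⁻¹ := by group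
          _ = j * j * v''⁻¹ := by rw [hjj]
          _ = j * (v'' * j⁻¹ * v''⁻¹) * v'' := by
            rw [show v'' * j⁻¹ * v''⁻¹ = (v'' * j * v''⁻¹)⁻¹ by group, hv''inv, inv_inv,
              invol_inv hv''o]
          _ = j * v'' * j⁻¹ := by group
      have h2 : Commute ((j * g⁻¹)⁻¹ * g) t := by
        refine mul_inv_eq_iff_eq_mul.1 ?_
        rw [show (j * g⁻¹)⁻¹ * g * t * ((j * g⁻¹)⁻¹ * g)⁻¹ = (j * g⁻¹)⁻¹ * (g * t * g⁻¹) * (j * g⁻¹) by
          group, ← hv', h1, hv'']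
        group
      have h3 : g * g ∈ L := by
        have h4 := hCL _ h2
        have h5 := mul_mem (hconjL g⁻¹ _ (hKL j hjK)) (hconjL g⁻¹ _ (hconjL g _ (hCL _ h2)))
        have h6 : g * (j⁻¹ * g) ∈ L := by
          rw [show g * (j⁻¹ * g) = (j * g⁻¹)⁻¹ * g by group]; exact h4
        have h7 := mul_mem (hconjL g _ (hKL j hjK)) h6
        rwa [show g * j * g⁻¹ * (g * (j⁻¹ * g)) = g * g by group] at h7
      obtain ⟨m, hm⟩ := hodd
      have h8 : g ^ L.index ∈ L := Subgroup.pow_index_mem L g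
      rw [hm, pow_succ, pow_mul, pow_two] at h8
      exact (Subgroup.mul_mem_cancel_left L (pow_mem h3 m)).1 h8
  refine (Subgroup.eq_top_iff' L).2 fun x => ?_
  set u := x * t * x⁻¹ with hu
  have huo : orderOf u = 2 := by rw [hu, orderOf_conj_eq, S.ht]
  rcases Nat.even_or_odd (orderOf (t * u)) with he | ho
  · obtain ⟨w, hw, hwt, hwu⟩ := exists_commute_both S.ht huo he
    obtain ⟨c, hc⟩ := isConj_iff.1 (S.hconj t w S.ht hw)
    have hcL : c ∈ L := hphi c (by rw [hc]; exact hwt)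
    have h1 : Commute (c⁻¹ * x * t * (c⁻¹ * x)⁻¹) t := by
      have := hwu.symm.map (MulAut.conj c⁻¹).toMonoidHom
      simpa [← hc, hu, mul_assoc] using this
    have := mul_mem hcL (hphi _ h1)
    rwa [mul_inv_cancel_left] at this
  · obtain ⟨d, hd, hdt⟩ := exists_conj_of_odd S.ht huo ho
    have hdL : d ∈ L := (Subgroup.zpowers_le.2 (mul_mem htL (hinvL u huo))) hd
    have h1 : Commute (d⁻¹ * x) t := by
      refine mul_inv_eq_iff_eq_mul.1 ?_
      rw [show d⁻¹ * x * t * (d⁻¹ * x)⁻¹ = d⁻¹ * (x * t * x⁻¹) * d by group, ← hu, ← hdt]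
      group
    have := mul_mem hdL (hCL _ h1)
    rwa [mul_inv_cancel_left] at this

namespace Hyp2

variable {G : Type u} [Group G] [Finite G] (h : Hyp2 G)
include h

theorem mul_K {t : G} (ht : orderOf t = 2) {s : G} (hst : Commute s t) (hsK : s ∉ h.K t ht)
    {g : G} (hg : Commute g t) : g ∈ h.K t ht ∨ g * s ∈ h.K t ht := by
  by_cases hgK : g ∈ h.K t ht
  · exact Or.inl hgK
  · exact Or.inr (h.mul_mem_K ht hg hgK hst hsK)

theorem setup {t s : G} (ht : orderOf t = 2) (hst : Commute s t) (hsK : s ∉ h.K t ht)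
    (hconj : ∀ x : G, orderOf x = 2 → IsConj t x) :
    CfsgLib.InvChar.BSW.Setup t (h.K t ht) s where
  ht := ht
  hcomm := fun _ hx _ hy => h.K_comm ht hx hy
  hKH := h.K_le ht
  htK := h.t_mem_K ht
  hs := (h.outside ht hst hsK).1
  hsH := mem_C.2 hst
  hsK := hsK
  hH := by
    refine le_antisymm (sup_le (h.K_le ht) (Subgroup.zpowers_le.2 (mem_C.2 hst))) fun g hg => ?_
    rcases h.mul_K ht hst hsK (mem_C.1 hg) with e | e
    · exact Subgroup.mem_sup_left e
    · have := mul_mem (Subgroup.mem_sup_left (T := Subgroup.zpowers s) e)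
        (Subgroup.mem_sup_right (S := h.K t ht) (inv_mem (Subgroup.mem_zpowers s)))
      rwa [mul_inv_cancel_right] at this
  hCK := by
    ext x
    constructor
    · rintro ⟨hxK, hxs⟩
      have h1 := (h.outside ht hst hsK).2 x hxK
      have h2 : s * x = x * s := (Subgroup.mem_centralizer_singleton_iff.1 hxs).symm
      rw [h2, mul_inv_cancel_right] at h1
      by_cases hx1 : x = 1
      · exact hx1 ▸ one_mem _
      · rw [h.invol_in_K ht hxK (invol_of_inv h1.symm hx1)]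
        exact Subgroup.mem_zpowers t
    · intro hx
      refine (Subgroup.zpowers_le.2 ?_) hx
      exact ⟨h.t_mem_K ht, Subgroup.mem_centralizer_singleton_iff.2 hst.symm⟩
  hinv := (h.outside ht hst hsK).2
  hTI := fun g hg => by
    rw [Subgroup.eq_bot_iff_forall]
    rintro x ⟨hxK, y, hy, rfl⟩
    by_contra hne
    refine hg (mem_C.2 (h.K_TI ht hxK hne ?_))
    simpa [mul_assoc] using hy
  hconj := fun x y hx hy => (hconj x hx).symm.trans (hconj y hy)

omit h [Finite G] in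
theorem conj_into_N {N : Subgroup G} {c a b : G} (hidx : N.index = 2) (hcN : c ∉ N)
    (hca : Commute c a) (hab : IsConj a b) : ∃ n ∈ N, n * a * n⁻¹ = b := by
  obtain ⟨g, hg⟩ := isConj_iff.1 hab
  by_cases hgN : g ∈ N
  · exact ⟨g, hgN, hg⟩
  · refine ⟨g * c, (Subgroup.mul_mem_iff_of_index_two hidx).2 (iff_of_false hgN hcN), ?_⟩
    rw [show g * c * a * (g * c)⁻¹ = g * (c * a * c⁻¹) * g⁻¹ by group, hca.eq, mul_inv_cancel_right,
      hg]

/-- Either one class of involutions, or a normal subgroup of index two with one class. -/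
theorem dichotomy [Nontrivial G] :
    (∃ (t s : G) (K : Subgroup G), CfsgLib.InvChar.BSW.Setup t K s) ∨
    ∃ N : Subgroup G, N.Normal ∧ N.index = 2 ∧
      (∀ R : Subgroup N, R.Normal → Group.IsSolvable ↥R → R = ⊥) ∧ Nontrivial N ∧
      ∃ (t s : N) (K : Subgroup N), CfsgLib.InvChar.BSW.Setup t K s := by
  have : Fact (Nat.Prime 2) := ⟨Nat.prime_two⟩
  have hev : Even (Nat.card G) := by
    by_contra ho
    have h1 := h.hss ⊤ inferInstance (CfsgLib.StructB.CycInt.solvable_odd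
      (by rw [Subgroup.card_top]; exact Nat.not_even_iff_odd.1 ho))
    exact bot_ne_top (α := Subgroup G) h1.symm
  obtain ⟨S⟩ : Nonempty (Sylow 2 G) := inferInstance
  have : Nontrivial (S : Subgroup G) := by
    rw [Subgroup.nontrivial_iff_ne_bot]
    exact Sylow.ne_bot_of_dvd_card S (even_iff_two_dvd.1 hev)
  have hcn := IsPGroup.center_nontrivial S.isPGroup'
  obtain ⟨n, hn⟩ := IsPGroup.iff_card.1 (S.isPGroup'.to_subgroup (Subgroup.center (S : Subgroup G)))
  have hn0 : n ≠ 0 := by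
    rintro rfl
    have := Finite.one_lt_card_iff_nontrivial.2 hcn
    omega
  obtain ⟨⟨t, htS⟩, htc, htoS⟩ := exists_invol_mem (H := Subgroup.center (S : Subgroup G))
    (by rw [hn, Nat.even_pow]; exact ⟨even_two, hn0⟩)
  have ht : orderOf t = 2 := by rwa [Subgroup.orderOf_mk] at htoS
  have hSC : (S : Subgroup G) ≤ C t := fun x hx =>
    mem_C.2 (congrArg Subtype.val (Subgroup.mem_center_iff.1 htc ⟨x, hx⟩))
  obtain ⟨g0, hg0, hg0ne⟩ := h.toHyp.exists_conj_commute ht
  -- conjugates outside `K` can be moved into `S`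
  have hmove : ∀ c : G, orderOf c = 2 → Commute c t → c ≠ t →
      ∃ c', orderOf c' = 2 ∧ Commute c' t ∧ c' ∉ h.K t ht ∧ c' ∈ (S : Subgroup G) ∧ IsConj c c' := by
    intro c hco hct hne
    obtain ⟨m, hm⟩ := exists_conj_invol_mem_sylow (S.subtype hSC)
      (x := (⟨c, mem_C.2 hct⟩ : C t)) ((Subgroup.orderOf_mk c (mem_C.2 hct)).trans hco)
    refine ⟨(m : G) * c * (m : G)⁻¹, by rw [orderOf_conj_eq, hco], ?_, fun hK => hne ?_, ?_,
      isConj_iff.2 ⟨m, rfl⟩⟩
    · exact mem_C.1 (mul_mem (mul_mem m.2 (mem_C.2 hct)) (inv_mem m.2))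
    · have h1 := h.invol_in_K ht hK (by rw [orderOf_conj_eq, hco])
      have h2 : Commute (m : G) t := mem_C.1 m.2
      calc c = (m : G)⁻¹ * ((m : G) * c * (m : G)⁻¹) * m := by group
        _ = t := by rw [h1, mul_assoc, ← h2.eq, inv_mul_cancel_left]
    · exact hm
  have hclass : (∀ c, orderOf c = 2 → Commute c t → IsConj t c) →
      ∀ x : G, orderOf x = 2 → IsConj t x := by
    intro hall x hx
    by_contra hne
    obtain ⟨w, hw, hwt, hwx⟩ := exists_commute_both ht hx (even_of_not_isConj ht hx hne)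
    obtain ⟨k, hk⟩ := isConj_iff.1 (hall w hw hwt)
    have h1 : Commute (k⁻¹ * x * k) t := by
      simpa [← hk, mul_assoc] using hwx.symm.map (MulAut.conj k⁻¹).toMonoidHom
    exact hne ((hall _ (by rw [orderOf_conj_inv_eq, hx]) h1).trans
      (isConj_iff.2 ⟨k, by group⟩))
  by_cases hall : ∀ c, orderOf c = 2 → Commute c t → IsConj t c
  · obtain ⟨s, hs, hst, hsK⟩ := h.exists_outside ht
    exact Or.inl ⟨t, s, _, h.setup ht hst hsK (hclass hall)⟩
  push Not at hall
  obtain ⟨c0, hc0, hc0t, hc0n⟩ := hall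
  obtain ⟨c, hco, hct, hcK, hcS, hcc⟩ := hmove c0 hc0 hc0t (fun e => hc0n (by rw [e]))
  have hcn' : ¬ IsConj t c := fun e => hc0n (e.trans hcc.symm)
  obtain ⟨v, hvo, hvt, hvK, hvS, hvv⟩ := hmove (g0 * t * g0⁻¹) (by rw [orderOf_conj_eq, ht])
    hg0.symm hg0ne
  have htv : IsConj t v := (isConj_iff.2 ⟨g0, rfl⟩).trans hvv
  have hvi := invol_inv hvo
  have hvinv := (h.outside ht hvt hvK).2
  set KK := h.K t ht with hKK
  have hcomm : ∀ a ∈ KK, ∀ b ∈ KK, a * b = b * a := fun a ha b hb => (h.K_comm ht ha hb).eq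
  have huniq : ∀ x ∈ KK, x * x = 1 → x = 1 ∨ x = t := by
    intro x hx hx2
    by_cases hx1 : x = 1
    · exact Or.inl hx1
    · exact Or.inr (h.invol_in_K ht hx (invol_of_mul_self hx2 hx1))
  have hsqv : ∀ k ∈ KK, k * k * v = k * v * k⁻¹ := fun k hk => by
    calc k * k * v = k * (v * k⁻¹ * v⁻¹) * v := by
          rw [show v * k⁻¹ * v⁻¹ = (v * k * v⁻¹)⁻¹ by group, hvinv k hk, inv_inv]
      _ = k * v * k⁻¹ := by group
  let L : Subgroup G :=
    { carrier := {g | (∃ k ∈ KK, k * k = g) ∨ ∃ k ∈ KK, k * k = g * v}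
      one_mem' := Or.inl ⟨1, one_mem _, one_mul 1⟩
      inv_mem' := by
        rintro g (⟨k, hk, e⟩ | ⟨k, hk, e⟩)
        · exact Or.inl ⟨k⁻¹, inv_mem hk, by rw [← mul_inv_rev, e]⟩
        · refine Or.inr ⟨k, hk, ?_⟩
          have h1 := hvinv _ (e ▸ mul_mem hk hk : g * v ∈ KK)
          rw [show v * (g * v) * v⁻¹ = v * g by group, mul_inv_rev, hvi] at h1
          rw [e, ← mul_left_cancel h1]
      mul_mem' := by
        rintro a b (⟨k, hk, ea⟩ | ⟨k, hk, ea⟩) (⟨j, hj, eb⟩ | ⟨j, hj, eb⟩)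
        · exact Or.inl ⟨k * j, mul_mem hk hj, by
            rw [← ea, ← eb, (h.K_comm ht hj hk).mul_mul_mul_comm]⟩
        · exact Or.inr ⟨k * j, mul_mem hk hj, by
            rw [(h.K_comm ht hj hk).mul_mul_mul_comm, ea, eb, mul_assoc]⟩
        · refine Or.inr ⟨k * j⁻¹, mul_mem hk (inv_mem hj), ?_⟩
          rw [(h.K_comm ht (inv_mem hj) hk).mul_mul_mul_comm, ea, ← mul_inv_rev, eb]
          calc a * v * b⁻¹ = a * (v * b⁻¹ * v⁻¹) * v := by group
            _ = a * b * v := by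
              rw [show v * b⁻¹ * v⁻¹ = (v * b * v⁻¹)⁻¹ by group,
                hvinv b (eb ▸ mul_mem hj hj), inv_inv]
        · refine Or.inl ⟨k * j⁻¹, mul_mem hk (inv_mem hj), ?_⟩
          rw [(h.K_comm ht (inv_mem hj) hk).mul_mul_mul_comm, ea, ← mul_inv_rev, eb,
            ← hvinv _ (eb ▸ mul_mem hj hj : b * v ∈ KK),
            show a * v * (v * (b * v) * v⁻¹) = a * (v * v) * b by group, invol_mul_self hvo, mul_one] }
  have hmemL : ∀ g, g ∈ L ↔ (∃ k ∈ KK, k * k = g) ∨ ∃ k ∈ KK, k * k = g * v := fun g => Iff.rfl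
  have hvv2 := invol_mul_self hvo
  have hLt : ∀ g ∈ L, orderOf g = 2 → IsConj t g := by
    intro g hg hgo
    rcases (hmemL g).1 hg with ⟨k, hk, e⟩ | ⟨k, hk, e⟩
    · rw [h.invol_in_K ht (e ▸ mul_mem hk hk) hgo]
    · refine htv.trans (isConj_iff.2 ⟨k, ?_⟩)
      rw [← hsqv k hk, e, mul_assoc, hvv2, mul_one]
  have hcL : c ∉ L := fun e => hcn' (hLt c e hco)
  have hcv : c * v ∈ KK := h.mul_mem_K ht hct hcK hvt hvK
  have hvc : v * c = (c * v)⁻¹ := by rw [mul_inv_rev, hvi, invol_inv hco]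
  -- `L` has index two in `C(t)`
  have hLc : ∀ z : G, Commute z t → z ∈ L ∨ z * c ∈ L := by
    intro z hz
    rcases h.mul_K ht hvt hvK hz with e | e
    · rcases sq_or KK hcomm ht (h.t_mem_K ht) huniq e hcv with ⟨k, hk, hk2⟩ | ⟨k, hk, hk2⟩ | ⟨k, hk, hk2⟩
      · exact Or.inl (Or.inl ⟨k, hk, hk2⟩)
      · exact absurd (Or.inr ⟨k, hk, hk2⟩) hcL
      · exact Or.inr (Or.inr ⟨k, hk, by rw [hk2, mul_assoc]⟩)
    · have e2 : (c * v)⁻¹ ∈ KK := inv_mem hcv
      rcases sq_or KK hcomm ht (h.t_mem_K ht) huniq e e2 with ⟨k, hk, hk2⟩ | ⟨k, hk, hk2⟩ | ⟨k, hk, hk2⟩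
      · exact Or.inl (Or.inr ⟨k, hk, hk2⟩)
      · exact absurd (Or.inr ⟨k⁻¹, inv_mem hk, by rw [← mul_inv_rev, hk2, inv_inv]⟩) hcL
      · refine Or.inr (Or.inl ⟨k, hk, ?_⟩)
        rw [hk2, ← hvc, show z * v * (v * c) = z * (v * v) * c by group, hvv2, mul_one]
  have hQi : (L ⊓ (S : Subgroup G)).relIndex (S : Subgroup G) = 2 := by
    refine Subgroup.index_eq_two_iff.2 ⟨⟨c, hcS⟩, fun b => ?_⟩
    rcases hLc b (mem_C.1 (hSC b.2)) with e | e
    · exact Or.inr ⟨⟨e, b.2⟩, fun e' => hcL (by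
        have h0 : (b : G) * c ∈ L := (Subgroup.mem_subgroupOf.1 e').1
        have := mul_mem (inv_mem e) h0
        rwa [inv_mul_cancel_left] at this)⟩
    · exact Or.inl ⟨⟨e, mul_mem b.2 hcS⟩, fun e' => hcL (by
        have h0 : (b : G) ∈ L := (Subgroup.mem_subgroupOf.1 e').1
        have := mul_mem (inv_mem h0) e
        rwa [inv_mul_cancel_left] at this)⟩
  obtain ⟨N, hN, hidx, hcN⟩ := (CfsgLib.Transfer.thompson_transfer_involution S
    (Q := L ⊓ (S : Subgroup G)) inf_le_right hQi (u := c) (by rw [pow_two, invol_mul_self hco]) hcS).resolve_right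
    (fun ⟨g, hg⟩ => hcn' ((hLt _ hg.1 (by rw [orderOf_conj_eq, hco])).trans
      (isConj_iff.2 ⟨g, rfl⟩ : IsConj c (g * c * g⁻¹)).symm))
  have hmul : ∀ {a b : G}, a * b ∈ N ↔ (a ∈ N ↔ b ∈ N) := Subgroup.mul_mem_iff_of_index_two hidx
  have hsqN : ∀ k : G, k * k ∈ N := fun k => hmul.2 Iff.rfl
  have hconjN : ∀ g x : G, x ∈ N ↔ g * x * g⁻¹ ∈ N := fun g x =>
    ⟨fun hx => hN.conj_mem x hx g, fun hx => by simpa [mul_assoc] using hN.conj_mem _ hx g⁻¹⟩
  obtain ⟨gv, hgv⟩ := isConj_iff.1 htv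
  have htvN : t ∈ N ↔ v ∈ N := by rw [← hgv]; exact hconjN gv t
  have htN : t ∈ N := by
    by_contra htN
    have hvN : v ∉ N := fun e => htN (htvN.2 e)
    have hcvN : c * v ∈ N := hmul.2 (iff_of_false hcN hvN)
    rcases sq_or KK hcomm ht (h.t_mem_K ht) huniq (h.t_mem_K ht) hcv with ⟨k, hk, hk2⟩ | ⟨k, hk, hk2⟩ | ⟨k, hk, hk2⟩
    · exact htN (hk2 ▸ hsqN k)
    · exact hcL (Or.inr ⟨k, hk, hk2⟩)
    · exact (fun e => htN ((hmul.1 e).2 hcvN)) (hk2 ▸ hsqN k)
  have hvN := htvN.1 htN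
  have hLN : ∀ g ∈ L, g ∈ N := by
    intro g hg
    rcases (hmemL g).1 hg with ⟨k, -, e⟩ | ⟨k, -, e⟩
    · exact e ▸ hsqN k
    · exact (hmul.1 (e ▸ hsqN k)).2 hvN
  have hNL : ∀ z ∈ N, Commute z t → z ∈ L := fun z hz hzt =>
    (hLc z hzt).resolve_right fun e => hcN ((hmul.1 (hLN _ e)).1 hz)
  have hNss : ∀ R : Subgroup N, R.Normal → Group.IsSolvable ↥R → R = ⊥ := by
    intro R hR hRs
    set R1 := R.map N.subtype with hR1
    set R2 := R1.map (MulAut.conj c).toMonoidHom with hR2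
    have hR1N : R1 ≤ N := Subgroup.map_subtype_le R
    have hn1 : ∀ n ∈ N, ∀ x ∈ R1, n * x * n⁻¹ ∈ R1 := by
      rintro n hn _ ⟨x, hx, rfl⟩
      exact ⟨⟨n, hn⟩ * x * ⟨n, hn⟩⁻¹, hR.conj_mem x hx _, rfl⟩
    have hn2 : ∀ n ∈ N, ∀ x ∈ R2, n * x * n⁻¹ ∈ R2 := by
      rintro n hn _ ⟨x, hx, rfl⟩
      refine ⟨c⁻¹ * n * c * x * (c⁻¹ * n * c)⁻¹, hn1 _ ?_ x hx, by simp [mul_assoc]⟩
      simpa using hN.conj_mem n hn c⁻¹
    have hc12 : ∀ x ∈ R1 ⊔ R2, c * x * c⁻¹ ∈ R1 ⊔ R2 := by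
      intro x hx
      have hle : (R1 ⊔ R2).map (MulAut.conj c).toMonoidHom ≤ R1 ⊔ R2 := by
        rw [Subgroup.map_sup, ← hR2]
        refine sup_le le_sup_right ?_
        rintro _ ⟨_, ⟨y, hy, rfl⟩, rfl⟩
        refine Subgroup.mem_sup_left ?_
        show c * (c * y * c⁻¹) * c⁻¹ ∈ R1
        rwa [show c * (c * y * c⁻¹) * c⁻¹ = c * c * y * (c * c)⁻¹ by group, invol_mul_self hco,
          one_mul, inv_one, mul_one]
      exact hle ⟨x, hx, rfl⟩
    have hNn : ∀ n ∈ N, ∀ x ∈ R1 ⊔ R2, n * x * n⁻¹ ∈ R1 ⊔ R2 := by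
      intro n hn x hx
      have hle : (R1 ⊔ R2).map (MulAut.conj n).toMonoidHom ≤ R1 ⊔ R2 := by
        rw [Subgroup.map_sup]
        refine sup_le_sup ?_ ?_
        · rintro _ ⟨y, hy, rfl⟩; exact hn1 n hn y hy
        · rintro _ ⟨y, hy, rfl⟩; exact hn2 n hn y hy
      exact hle ⟨x, hx, rfl⟩
    have hnorm : (R1 ⊔ R2).Normal := by
      refine ⟨fun x hx g => ?_⟩
      by_cases hg : g ∈ N
      · exact hNn g hg x hx
      · have h1 := hNn (g * c) (hmul.2 (iff_of_false hg hcN)) _ (hc12 x hx)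
        rwa [show g * c * (c * x * c⁻¹) * (g * c)⁻¹ = g * (c * c) * x * (g * (c * c))⁻¹ by group,
          invol_mul_self hco, mul_one] at h1
    have s1 : Group.IsSolvable R1 := Group.isSolvable_of_surjective
      (f := (R.equivMapOfInjective N.subtype N.subtype_injective).toMonoidHom)
      (R.equivMapOfInjective N.subtype N.subtype_injective).surjective
    have s2 : Group.IsSolvable R2 := Group.isSolvable_of_surjective
      (f := (R1.equivMapOfInjective _ (MulAut.conj c).injective).toMonoidHom)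
      (R1.equivMapOfInjective _ (MulAut.conj c).injective).surjective
    have hle : R2 ≤ Subgroup.normalizer (R1 : Set G) := by
      rintro _ ⟨x, hx, rfl⟩
      refine Subgroup.mem_normalizer_iff.2 fun y => ?_
      have hxN : c * x * c⁻¹ ∈ N := hN.conj_mem x (hR1N hx) c
      show y ∈ R1 ↔ (c * x * c⁻¹) * y * (c * x * c⁻¹)⁻¹ ∈ R1
      refine ⟨hn1 _ hxN y, fun hy => ?_⟩
      simpa [mul_assoc] using hn1 _ (inv_mem hxN) _ hy
    have h1 := h.hss _ hnorm (CfsgLib.Comp.isSolvable_sup hle s1 s2)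
    have h2 : R1 = ⊥ := le_bot_iff.1 (le_sup_left.trans h1.le)
    rwa [hR1, ← Subgroup.map_bot N.subtype,
      (Subgroup.map_injective N.subtype_injective).eq_iff] at h2
  refine Or.inr ⟨N, hN, hidx, hNss, ⟨⟨⟨t, htN⟩, 1, fun e => invol_ne_one ht (congrArg Subtype.val e)⟩⟩,
    ⟨t, htN⟩, ⟨v, hvN⟩, KK.subgroupOf N, ?_⟩
  have hNconj : ∀ x ∈ N, orderOf x = 2 → IsConj t x := by
    intro x hxN hxo
    by_contra hne
    have he := even_of_not_isConj ht hxo hne
    have hw := orderOf_pow_half he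
    have hwN : (t * x) ^ (orderOf (t * x) / 2) ∈ N := pow_mem (mul_mem htN hxN) _
    obtain ⟨k, hk⟩ := isConj_iff.1 (hLt _ (hNL _ hwN (commute_pow_half_left ht hxo he)) hw)
    have h1 : Commute (k⁻¹ * x * k) t := by
      simpa [← hk, mul_assoc] using (commute_pow_half_right ht hxo he).symm.map (MulAut.conj k⁻¹).toMonoidHom
    have hxk : k⁻¹ * x * k ∈ N := by simpa using hN.conj_mem x hxN k⁻¹
    exact hne ((hLt _ (hNL _ hxk h1) (by rw [orderOf_conj_inv_eq, hxo])).trans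
      (isConj_iff.2 ⟨k, by group⟩))
  have hmemC : ∀ z : N, z ∈ Subgroup.centralizer ({⟨t, htN⟩} : Set N) ↔ Commute (z : G) t := by
    intro z
    rw [Subgroup.mem_centralizer_singleton_iff]
    exact ⟨fun e => congrArg Subtype.val e, fun e => Subtype.ext e⟩
  exact {
    ht := (Subgroup.orderOf_mk t htN).trans ht
    hcomm := fun x hx y hy => Subtype.ext (hcomm _ hx _ hy)
    hKH := fun x hx => (hmemC x).2 (hx : (x : G) ∈ KK).1
    htK := (h.t_mem_K ht : t ∈ KK)
    hs := (Subgroup.orderOf_mk v hvN).trans hvo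
    hsH := (hmemC _).2 hvt
    hsK := hvK
    hH := by
      refine le_antisymm (sup_le (fun x hx => (hmemC x).2 (hx : (x : G) ∈ KK).1)
        (Subgroup.zpowers_le.2 ((hmemC _).2 hvt))) fun z hz => ?_
      rcases h.mul_K ht hvt hvK ((hmemC z).1 hz) with e | e
      · exact Subgroup.mem_sup_left (show z ∈ KK.subgroupOf N from e)
      · have := mul_mem (Subgroup.mem_sup_left (T := Subgroup.zpowers (⟨v, hvN⟩ : N))
          (show z * (⟨v, hvN⟩ : N) ∈ KK.subgroupOf N from e))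
          (Subgroup.mem_sup_right (S := KK.subgroupOf N) (inv_mem (Subgroup.mem_zpowers (⟨v, hvN⟩ : N))))
        rwa [mul_inv_cancel_right] at this
    hCK := by
      ext x
      constructor
      · rintro ⟨hxK, hxs⟩
        have h1 := hvinv x hxK
        have h2 : v * (x : G) = x * v :=
          (congrArg Subtype.val (Subgroup.mem_centralizer_singleton_iff.1 hxs)).symm
        rw [h2, mul_inv_cancel_right] at h1
        rcases huniq x hxK (by nth_rewrite 1 [h1]; exact inv_mul_cancel _) with e | e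
        · rw [show x = (1 : N) from Subtype.ext e]; exact one_mem _
        · rw [show x = (⟨t, htN⟩ : N) from Subtype.ext e]; exact Subgroup.mem_zpowers _
      · intro hx
        refine (Subgroup.zpowers_le.2 ?_) hx
        exact ⟨(h.t_mem_K ht : t ∈ KK),
          Subgroup.mem_centralizer_singleton_iff.2 (Subtype.ext hvt.symm.eq)⟩
    hinv := fun x hx => Subtype.ext (hvinv x hx)
    hTI := fun g hg => by
      rw [Subgroup.eq_bot_iff_forall]
      rintro x ⟨hxK, y, hy, rfl⟩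
      by_contra hne
      refine hg ((hmemC g).2 (h.K_TI ht hxK (fun e => hne (Subtype.ext e)) ?_))
      have hyK : (y : G) ∈ h.K t ht := Subgroup.mem_subgroupOf.1 hy
      simpa [mul_assoc] using hyK
    hconj := fun x y hx hy => by
      obtain ⟨n, hn, e⟩ := conj_into_N hidx hcN hct (hNconj x x.2 (by rwa [Subgroup.orderOf_coe]))
      obtain ⟨m, hm, e'⟩ := conj_into_N hidx hcN hct (hNconj y y.2 (by rwa [Subgroup.orderOf_coe]))
      refine isConj_iff.2 ⟨⟨m, hm⟩ * ⟨n, hn⟩⁻¹, Subtype.ext ?_⟩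
      show m * n⁻¹ * x * (m * n⁻¹)⁻¹ = y
      rw [← e', ← e]; group }

end Hyp2

end CfsgLib.NormEven
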