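import Cfsg.Agent.Lib.InvChar.NormEven.Class
import Cfsg.Agent.Lib.InvChar.BSWPSL
import Cfsg.Agent.Lib.Perm.SharplyThree

/-!
The normal subgroup of index two extends to `PGL₂(q)`: the action on the conjugates of the
self-centralizing Sylow subgroup is sharply three-transitive.
-/

set_option autoImplicit false
set_option linter.unusedSectionVars false

namespace CfsgLib.NormEven

open CfsgLib.Invol Subgroup

universe u

variable {G : Type u} [Group G] [Finite G]

/-- The data of the odd characteristic Sylow subgroup in the normal subgroup of index two. -/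
structure ExtData (N Q : Subgroup G) (p q : ℕ) : Prop where
  norm : N.Normal
  idx : N.index = 2
  simple : IsSimpleGroup N
  hp : p.Prime
  pgrp : IsPGroup p Q
  cardQ : Nat.card Q = q
  q5 : 5 ≤ q
  qodd : Odd q
  le : Q ≤ N
  cent : ∀ x ∈ Q, x ≠ 1 → centralizer ({x} : Set G) ⊓ N = Q
  cardN : 2 * Nat.card N = q * (q + 1) * (q - 1)
  cardM : 2 * Nat.card ↥(Subgroup.normalizer (Q : Set G) ⊓ N) = q * (q - 1)
  frattini : Subgroup.normalizer (Q : Set G) ⊔ N = ⊤

theorem isPGroup_of_conclusion {X : Type u} [Group X] [Finite X] {Q D : Subgroup X}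
    (hC : ∀ x ∈ Q, x ≠ 1 → centralizer ({x} : Set X) = Q) (hD : 2 * Nat.card D + 1 = Nat.card Q)
    (hQD : Q ⊓ D = ⊥) (hDN : D ≤ Subgroup.normalizer (Q : Set X)) :
    ∃ p, p.Prime ∧ IsPGroup p Q ∧ ¬ p ∣ Nat.card D := by
  classical
  have hdpos : 0 < Nat.card D := Nat.card_pos
  obtain ⟨p, hp, hpq⟩ := Nat.exists_prime_and_dvd (show Nat.card Q ≠ 1 by omega)
  haveI := Fact.mk hp
  have hQc : ∀ x ∈ Q, ∀ y ∈ Q, x * y = y * x := by
    intro x hx y hy
    by_cases h1 : x = 1
    · rw [h1, one_mul, mul_one]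
    · exact (mem_centralizer_singleton_iff.1 ((hC x hx h1).ge hy)).symm
  let R : Subgroup X :=
    { carrier := {x | x ∈ Q ∧ x ^ p = 1}
      one_mem' := ⟨one_mem Q, one_pow p⟩
      mul_mem' := fun {a b} ha hb => ⟨mul_mem ha.1 hb.1, by
        rw [(show Commute a b from hQc a ha.1 b hb.1).mul_pow, ha.2, hb.2, one_mul]⟩
      inv_mem' := fun {a} ha => ⟨inv_mem ha.1, by rw [inv_pow, ha.2, inv_one]⟩ }
  have hRQ : R ≤ Q := fun x hx => hx.1
  obtain ⟨x, hx⟩ := exists_prime_orderOf_dvd_card' p hpq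
  have hxR : (x : X) ∈ R := ⟨x.2, by rw [← SubgroupClass.coe_pow, ← hx, pow_orderOf_eq_one]; rfl⟩
  have hx1 : (x : X) ≠ 1 := fun e => hp.one_lt.ne' (by
    rw [← hx, ← Subgroup.orderOf_coe, e, orderOf_one])
  let f : D → {y : R // y ≠ 1} := fun a => ⟨⟨(a : X) * x * (a : X)⁻¹,
    (mem_normalizer_iff.1 (hDN a.2) x).1 x.2, by rw [conj_pow, hxR.2, mul_one, mul_inv_cancel]⟩,
    fun e => hx1 (conj_eq_one_iff.1 (congrArg Subtype.val e))⟩
  have hf : Function.Injective f := by
    intro a b e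
    have e' : (a : X) * x * (a : X)⁻¹ = (b : X) * x * (b : X)⁻¹ :=
      congrArg (fun y : {y : R // y ≠ 1} => (y.1 : X)) e
    have hc : (a : X)⁻¹ * b ∈ Q ⊓ D := by
      refine ⟨(hC x x.2 hx1).le (mem_centralizer_singleton_iff.2 ?_),
        (mul_mem (inv_mem a.2) b.2 : (a : X)⁻¹ * b ∈ D)⟩
      calc (a : X)⁻¹ * b * x = (a : X)⁻¹ * ((b : X) * x * (b : X)⁻¹) * b := by group
        _ = (a : X)⁻¹ * ((a : X) * x * (a : X)⁻¹) * b := by rw [e']
        _ = x * ((a : X)⁻¹ * b) := by group
    rw [hQD, mem_bot] at hc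
    exact Subtype.ext (inv_mul_eq_one.1 hc)
  have hle := Nat.card_le_card_of_injective f hf
  haveI := Fintype.ofFinite R
  rw [Nat.card_eq_fintype_card (α := {y : R // y ≠ 1}), Fintype.card_subtype_compl,
    Fintype.card_subtype_eq, ← Nat.card_eq_fintype_card] at hle
  obtain ⟨c, hc⟩ := card_dvd_of_le hRQ
  have hRtop : R = Q := by
    refine eq_of_le_of_card_ge hRQ ?_
    rcases c with _ | _ | c
    · rw [mul_zero] at hc; omega
    · omega
    · exfalso
      have h2 : Nat.card R * 2 ≤ Nat.card Q := hc ▸ Nat.mul_le_mul_left _ (by omega)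
      have hRpos : 0 < Nat.card R := Nat.card_pos
      omega
  refine ⟨p, hp, fun y => ⟨1, Subtype.ext (by simpa using (hRtop.ge y.2).2)⟩, fun hdd => ?_⟩
  have h1 : p ∣ 1 := (Nat.dvd_add_right (Dvd.dvd.mul_left hdd 2)).1 (hD ▸ hpq)
  exact hp.one_lt.ne' (Nat.dvd_one.1 h1)

/-- The conclusion of the Brauer-Suzuki-Wall theorem in the subgroup of index two gives the data. -/
theorem ExtData.of_conclusion {N : Subgroup G} [hN : N.Normal] (hidx : N.index = 2)
    [IsSimpleGroup N] (hna : ¬ IsMulCommutative N) (h : CfsgLib.InvChar.BSW.Conclusion N) :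
    ∃ (Q : Subgroup G) (p q : ℕ), ExtData N Q p q := by
  classical
  obtain ⟨Q, D, hG, hC, -, hD, hQD, hNQ, -⟩ := h
  have hdpos : 0 < Nat.card D := Nat.card_pos
  obtain ⟨p, hp, hpg, hpd⟩ := isPGroup_of_conclusion hC hD hQD (hNQ ▸ le_sup_right)
  haveI := Fact.mk hp
  obtain ⟨q, hq⟩ : ∃ q, q = Nat.card Q := ⟨_, rfl⟩
  have hq5 : 5 ≤ q := by
    by_contra hlt
    have hq3 : Nat.card Q = 3 := by omega
    rw [hq3] at hG
    have h12 : Nat.card N = 2 ^ 2 * 3 ^ 1 := by norm_num at hG ⊢; omega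
    haveI := Char.burnside_pq 2 3 Nat.prime_two Nat.prime_three 2 1 N h12
    exact hna ⟨⟨IsSimpleGroup.comm_iff_isSolvable.2 inferInstance⟩⟩
  -- the normalizer in `N`
  have hDN : D ≤ Subgroup.normalizer (Q : Set N) := hNQ ▸ le_sup_right
  haveI : (Q.subgroupOf (Subgroup.normalizer (Q : Set N))).Normal :=
    normal_subgroupOf_of_le_normalizer le_rfl
  have hrel : Q.relIndex (Subgroup.normalizer (Q : Set N)) = Nat.card D := by
    have h1 : Q.relIndex (Subgroup.normalizer (Q : Set N)) = Q.relIndex D := by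
      rw [hNQ]
      rw [← relIndex_subgroupOf (L := Subgroup.normalizer (Q : Set N)) (sup_le le_normalizer hDN),
        subgroupOf_sup le_normalizer hDN, sup_comm, relIndex_sup_right, relIndex_subgroupOf hDN]
    rw [h1, ← inf_relIndex_right, hQD, relIndex_bot_left]
  have hNcard : Nat.card (Subgroup.normalizer (Q : Set N)) = q * Nat.card D := by
    have h1 := (Q.subgroupOf (Subgroup.normalizer (Q : Set N))).card_mul_index
    rwa [Nat.card_congr (subgroupOfEquivOfLe le_normalizer).toEquiv, ← hq,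
      show (Q.subgroupOf (Subgroup.normalizer (Q : Set N))).index = Nat.card D from hrel, eq_comm] at h1
  -- `Q` is a Sylow subgroup
  have hnd : ¬ p ∣ Q.index := by
    intro hdvd
    have h2 : Nat.card Q * Q.index * 2 = Nat.card Q * ((q + 1) * (q - 1)) := by
      rw [Q.card_mul_index, mul_comm, hG, ← hq, mul_assoc]
    have h3 : Q.index * 2 = (q + 1) * (q - 1) :=
      Nat.eq_of_mul_eq_mul_left Nat.card_pos (by rw [← mul_assoc]; exact h2)
    have h4 : p ∣ (q + 1) * (q - 1) := h3 ▸ dvd_mul_of_dvd_left hdvd 2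
    obtain ⟨n, hn⟩ := IsPGroup.iff_card.1 hpg
    have hpq : p ∣ q := by
      rw [hq, hn]
      refine dvd_pow_self p fun e => ?_
      rw [e, pow_zero] at hn; omega
    rcases hp.dvd_mul.1 h4 with e | e
    · exact hp.one_lt.ne' (Nat.dvd_one.1 ((Nat.dvd_add_right hpq).1 e))
    · exact hp.one_lt.ne' (Nat.dvd_one.1 ((Nat.dvd_add_right e).1
        (show p ∣ q - 1 + 1 by rwa [Nat.sub_add_cancel (by omega : 1 ≤ q)])))
  let P : Sylow p N := hpg.toSylow hnd
  have hP : (P : Subgroup N) = Q := IsPGroup.toSylow_coe hpg hnd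
  have hfr := Sylow.normalizer_sup_eq_top P
  rw [hP] at hfr
  refine ⟨Q.map N.subtype, p, q, hN, hidx, inferInstance, hp, hpg.map _, ?_, hq5,
    ⟨Nat.card D, by omega⟩, map_subtype_le Q, ?_, by rw [hG, ← hq], ?_, hfr⟩
  · rw [Nat.card_congr (Q.equivMapOfInjective _ N.subtype_injective).symm.toEquiv, hq]
  · rintro _ ⟨x, hx, rfl⟩ hx1
    have e := hC x hx fun e => hx1 (by rw [e]; rfl)
    ext y
    constructor
    · rintro ⟨hy, hyN⟩
      refine ⟨⟨y, hyN⟩, e.le (mem_centralizer_singleton_iff.2 (Subtype.ext ?_)), rfl⟩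
      exact mem_centralizer_singleton_iff.1 hy
    · rintro ⟨z, hz, rfl⟩
      exact ⟨mem_centralizer_singleton_iff.2
        (congrArg Subtype.val (mem_centralizer_singleton_iff.1 (e.ge hz))), z.2⟩
  · have h1 : Subgroup.normalizer (Q.map N.subtype : Set G) ⊓ N
        = (Subgroup.normalizer (Q : Set N)).map N.subtype := by
      ext y
      constructor
      · rintro ⟨hy, hyN⟩
        refine ⟨⟨y, hyN⟩, mem_normalizer_iff.2 fun z => ?_, rfl⟩
        have h0 := mem_normalizer_iff.1 hy (z : G)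
        constructor
        · intro hz
          obtain ⟨w, hw, hwe⟩ := h0.1 ⟨z, hz, rfl⟩
          exact (show w = (⟨y, hyN⟩ : N) * z * (⟨y, hyN⟩ : N)⁻¹ from Subtype.ext hwe) ▸ hw
        · intro hz
          obtain ⟨w, hw, hwe⟩ := h0.2 ⟨_, hz, rfl⟩
          exact (show w = z from Subtype.ext hwe) ▸ hw
      · rintro ⟨z, hz, rfl⟩
        refine ⟨mem_normalizer_iff.2 fun w => ?_, z.2⟩
        constructor
        · rintro ⟨x, hx, rfl⟩
          exact ⟨z * x * z⁻¹, (mem_normalizer_iff.1 hz x).1 hx, rfl⟩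
        · rintro ⟨x, hx, hxw⟩
          refine ⟨z⁻¹ * x * z, (mem_normalizer_iff.1 hz _).2 (by simpa [mul_assoc] using hx), ?_⟩
          simp only [map_mul, map_inv, hxw]
          simp [mul_assoc]
    rw [h1, Nat.card_congr ((Subgroup.normalizer (Q : Set N)).equivMapOfInjective _
      N.subtype_injective).symm.toEquiv, hNcard, show q - 1 = 2 * Nat.card D by omega]
    ring

namespace ExtData

variable {N Q : Subgroup G} {p q : ℕ} (E : ExtData N Q p q)
include E

theorem card_G : Nat.card G = q * (q + 1) * (q - 1) := by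
  rw [← E.cardN, ← N.card_mul_index, E.idx, mul_comm]

theorem card_normalizer : Nat.card ↥(Subgroup.normalizer (Q : Set G)) = q * (q - 1) := by
  have := E.norm
  have h1 := (N.subgroupOf (Subgroup.normalizer (Q : Set G))).card_mul_index
  have h2 : (N.subgroupOf (Subgroup.normalizer (Q : Set G))).index = 2 := by
    show N.relIndex (Subgroup.normalizer (Q : Set G)) = 2
    rw [← relIndex_sup_right, E.frattini, relIndex_top_right, E.idx]
  rw [h2, ← Subgroup.inf_subgroupOf_right,
    Nat.card_congr (subgroupOfEquivOfLe inf_le_right).toEquiv, inf_comm, mul_comm, E.cardM] at h1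
  exact h1.symm

theorem index_normalizer : (Subgroup.normalizer (Q : Set G)).index = q + 1 := by
  have h1 := (Subgroup.normalizer (Q : Set G)).card_mul_index
  rw [E.card_normalizer, E.card_G, show q * (q + 1) * (q - 1) = q * (q - 1) * (q + 1) by ring] at h1
  have h5 := E.q5
  exact Nat.eq_of_mul_eq_mul_left (Nat.mul_pos (by omega) (by omega)) h1

theorem commQ {x y : G} (hx : x ∈ Q) (hy : y ∈ Q) : Commute x y := by
  by_cases h1 : x = 1
  · rw [h1]; exact Commute.one_left y
  · exact ((mem_centralizer_singleton_iff.1 ((E.cent x hx h1).ge hy).1).symm : x * y = y * x)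

theorem mem_of_pgroup {y : G} (hy : y ∈ Subgroup.normalizer (Q : Set G) ⊓ N) {n : ℕ}
    (hn : y ^ p ^ n = 1) : y ∈ Q := by
  set M := Subgroup.normalizer (Q : Set G) ⊓ N
  have hQM : Q ≤ M := le_inf le_normalizer E.le
  have : (Q.subgroupOf M).Normal := normal_subgroupOf_of_le_normalizer inf_le_left
  have hd : ¬ p ∣ (Q.subgroupOf M).index := by
    have h1 := (Q.subgroupOf M).card_mul_index
    rw [Nat.card_congr (subgroupOfEquivOfLe hQM).toEquiv, E.cardQ] at h1
    have h2 := E.cardM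
    rw [← h1, show 2 * (q * (Q.subgroupOf M).index) = q * (2 * (Q.subgroupOf M).index) by ring] at h2
    have h3 : 2 * (Q.subgroupOf M).index = q - 1 :=
      Nat.eq_of_mul_eq_mul_left (by have := E.q5; omega) h2
    intro hdvd
    have h4 : p ∣ q - 1 + 1 := by
      rw [Nat.sub_add_cancel (by have := E.q5; omega)]
      haveI := Fact.mk E.hp
      obtain ⟨k, hk⟩ := IsPGroup.iff_card.1 E.pgrp
      rw [E.cardQ] at hk
      rw [hk]
      refine dvd_pow_self p fun e => ?_
      rw [e, pow_zero] at hk; have := E.q5; omega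
    exact E.hp.one_lt.ne'
      (Nat.dvd_one.1 ((Nat.dvd_add_right (h3 ▸ dvd_mul_of_dvd_right hdvd 2)).1 h4))
  have h1 : orderOf (QuotientGroup.mk' (Q.subgroupOf M) ⟨y, hy⟩) ∣ Nat.gcd (p ^ n) (Q.subgroupOf M).index :=
    Nat.dvd_gcd (orderOf_dvd_of_pow_eq_one (by
      rw [← map_pow, show (⟨y, hy⟩ : M) ^ p ^ n = 1 from Subtype.ext hn, map_one]))
      (orderOf_dvd_natCard _)
  rw [Nat.Coprime.pow_left n (E.hp.coprime_iff_not_dvd.2 hd), Nat.dvd_one, orderOf_eq_one_iff] at h1
  exact mem_subgroupOf.1 ((QuotientGroup.eq_one_iff _).1 h1)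

theorem normalizes {g x : G} (hx : x ∈ Q) (hx1 : x ≠ 1) (hgx : g * x * g⁻¹ ∈ Q) :
    g ∈ Subgroup.normalizer (Q : Set G) := by
  have := E.norm
  have hg1 : g * x * g⁻¹ ≠ 1 := fun e => hx1 (conj_eq_one_iff.1 e)
  refine mem_normalizer_iff.2 fun z => ⟨fun hz => ?_, fun hz => ?_⟩
  · rw [← E.cent _ hgx hg1]
    refine ⟨mem_centralizer_singleton_iff.2 ?_, E.norm.conj_mem z (E.le hz) g⟩
    exact (E.commQ hz hx).map (MulAut.conj g).toMonoidHom
  · rw [← E.cent x hx hx1]
    refine ⟨mem_centralizer_singleton_iff.2 ?_, ?_⟩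
    · have := ((E.commQ hz hgx).map (MulAut.conj g⁻¹).toMonoidHom)
      simpa [mul_assoc] using this.eq
    · simpa [mul_assoc] using E.norm.conj_mem _ (E.le hz) g⁻¹

theorem semireg {x : G} (hx : x ∈ Q) {y : G ⧸ Subgroup.normalizer (Q : Set G)}
    (hy : y ≠ ((1 : G) : G ⧸ Subgroup.normalizer (Q : Set G))) (hxy : x • y = y) : x = 1 := by
  by_contra hx1
  induction y using QuotientGroup.induction_on with
  | H g =>
    rw [MulAction.Quotient.smul_coe, smul_eq_mul, QuotientGroup.eq] at hxy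
    have hm : g⁻¹ * x * g ∈ Subgroup.normalizer (Q : Set G) := by
      have h1 := inv_mem hxy
      rwa [show ((x * g)⁻¹ * g)⁻¹ = g⁻¹ * x * g by group] at h1
    obtain ⟨n, hn⟩ := E.pgrp ⟨x, hx⟩
    have hn' : x ^ p ^ n = 1 := congrArg Subtype.val hn
    have hmQ : g⁻¹ * x * g ∈ Q := by
      refine E.mem_of_pgroup ⟨hm, ?_⟩ (n := n) ?_
      · simpa using E.norm.conj_mem x (E.le hx) g⁻¹
      · rw [show g⁻¹ * x * g = g⁻¹ * x * (g⁻¹)⁻¹ by rw [inv_inv], conj_pow, hn', mul_one, inv_inv,
          inv_mul_cancel]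
    refine hy (QuotientGroup.eq.2 (mul_mem ?_ (one_mem _)))
    exact E.normalizes hx hx1 (by rwa [inv_inv])

theorem reg (y z : G ⧸ Subgroup.normalizer (Q : Set G))
    (hy : y ≠ ((1 : G) : G ⧸ Subgroup.normalizer (Q : Set G)))
    (hz : z ≠ ((1 : G) : G ⧸ Subgroup.normalizer (Q : Set G))) : ∃! u : Q, (u : G) • y = z := by
  classical
  haveI := Fintype.ofFinite (G ⧸ Subgroup.normalizer (Q : Set G))
  set o : G ⧸ Subgroup.normalizer (Q : Set G) := ((1 : G) : G ⧸ Subgroup.normalizer (Q : Set G))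
  have hfix : ∀ u ∈ Q, u • o = o := fun u hu => by
    rw [MulAction.Quotient.smul_coe, smul_eq_mul, mul_one, QuotientGroup.eq, mul_one, inv_mem_iff]
    exact le_normalizer hu
  let f : Q → {w : G ⧸ Subgroup.normalizer (Q : Set G) // w ≠ o} := fun u => ⟨(u : G) • y, fun e =>
    hy (smul_left_cancel (u : G) (e.trans (hfix _ u.2).symm))⟩
  have hinj : Function.Injective f := fun a b e => by
    have e' : (a : G) • y = (b : G) • y := congrArg Subtype.val e
    refine Subtype.ext (inv_mul_eq_one.1 (E.semireg (mul_mem (inv_mem a.2) b.2) hy ?_))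
    rw [mul_smul, ← e', inv_smul_smul]
  have hbij : Function.Bijective f := by
    refine (Nat.bijective_iff_injective_and_card f).2 ⟨hinj, ?_⟩
    rw [Nat.card_eq_fintype_card (α := {w : G ⧸ Subgroup.normalizer (Q : Set G) // w ≠ o}),
      Fintype.card_subtype_compl, Fintype.card_subtype_eq, ← Nat.card_eq_fintype_card,
      ← index_eq_card, E.index_normalizer, Nat.add_sub_cancel, E.cardQ]
  obtain ⟨u, hu⟩ := hbij.2 ⟨z, hz⟩
  exact ⟨u, congrArg Subtype.val hu, fun v hv =>
    hinj (Subtype.ext (hv.trans (congrArg Subtype.val hu).symm))⟩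

theorem faithful (hss : ∀ R : Subgroup G, R.Normal → Group.IsSolvable ↥R → R = ⊥) :
    (Subgroup.normalizer (Q : Set G)).normalCore = ⊥ := by
  have := E.norm
  have := E.simple
  set L := (Subgroup.normalizer (Q : Set G)).normalCore
  have hLN : L.subgroupOf N = ⊥ := by
    rcases (inferInstance : (L.subgroupOf N).Normal).eq_bot_or_eq_top with h1 | h1
    · exact h1
    · exfalso
      have h2 : N ≤ Subgroup.normalizer (Q : Set G) :=
        (subgroupOf_eq_top.1 h1).trans (normalCore_le _)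
      have h3 := E.index_normalizer
      have h4 := E.q5
      rw [← sup_eq_left.2 h2, E.frattini, index_top] at h3
      omega
  have hinf : ∀ l ∈ L, l ∈ N → l = 1 := by
    intro l hl hlN
    have h1 : (⟨l, hlN⟩ : N) ∈ L.subgroupOf N := mem_subgroupOf.2 hl
    rw [hLN, Subgroup.mem_bot] at h1
    exact congrArg (fun w : N => (w : G)) h1
  refine hss L inferInstance ?_
  refine Group.isSolvable_of_comm fun a b => Subtype.ext ?_
  have hab : (a : G) * b * (a : G)⁻¹ * (b : G)⁻¹ = 1 := by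
    refine hinf _ (mul_mem (mul_mem (mul_mem a.2 b.2) (inv_mem a.2)) (inv_mem b.2)) ?_
    simp only [Subgroup.mul_mem_iff_of_index_two E.idx, inv_mem_iff]
    tauto
  exact (commutatorElement_eq_one_iff_mul_comm.1 (by rw [commutatorElement_def]; exact hab))

/-- The centralizer in the whole group. -/
theorem cent_G (h : Hyp G) {x : G} (hx : x ∈ Q) (hx1 : x ≠ 1) :
    centralizer ({x} : Set G) = Q := by
  classical
  have := E.norm
  refine le_antisymm (fun c hc => ?_) fun c hc => ((E.cent x hx hx1).ge hc).1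
  by_contra hcQ
  have hcN : c ∉ N := fun hcN => hcQ ((E.cent x hx hx1).le ⟨hc, hcN⟩)
  haveI : Fact (Nat.Prime 2) := ⟨Nat.prime_two⟩
  set C := centralizer ({x} : Set G)
  have h2 : 2 ∣ Nat.card C := by
    have hrel : N.relIndex C = 2 := by
      show (N.subgroupOf C).index = 2
      rw [index_eq_two_iff]
      refine ⟨⟨c, hc⟩, fun g => ?_⟩
      simp only [mem_subgroupOf, Subgroup.coe_mul, Subgroup.mul_mem_iff_of_index_two E.idx]
      by_cases hg : (g : G) ∈ N <;> simp [hg, hcN]
    exact hrel ▸ Subgroup.index_dvd_card (N.subgroupOf C)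
  obtain ⟨⟨e, heC⟩, heo⟩ := exists_prime_orderOf_dvd_card' 2 h2
  rw [Subgroup.orderOf_mk] at heo
  have hxe : Commute x e := (mem_centralizer_singleton_iff.1 heC).symm
  have hQodd : ∀ z ∈ Q, Odd (orderOf z) := fun z hz =>
    (E.cardQ ▸ E.qodd : Odd (Nat.card Q)).of_dvd_nat
      (by rw [← Subgroup.orderOf_mk z hz]; exact orderOf_dvd_natCard _)
  have heN : e ∉ N := fun heN => by
    have := hQodd e ((E.cent x hx hx1).le ⟨heC, heN⟩)
    rw [heo] at this; exact absurd this (by decide)
  have hnx := h.odd_normalizer heo hxe (hQodd x hx) hx1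
  have heQ : ∀ z ∈ Q, Commute e z := by
    intro z hz
    have hz' : z ∈ Subgroup.normalizer (Subgroup.zpowers x : Set G) := by
      refine mem_normalizer_iff.2 fun w => ?_
      have hcx : ∀ w ∈ Subgroup.zpowers x, z * w * z⁻¹ = w := by
        intro w hw
        obtain ⟨k, rfl⟩ := mem_zpowers_iff.1 hw
        rw [((E.commQ hz hx).zpow_right k).eq, mul_inv_cancel_right]
      constructor
      · intro hw; rw [hcx w hw]; exact hw
      · intro hw
        have : z * w * z⁻¹ = w := by
          have h1 := hcx _ hw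
          have h2 : z * w * z⁻¹ = z⁻¹ * (z * w * z⁻¹) * z := by
            nth_rewrite 2 [← h1]; group
          rw [h2]; group
        rwa [this] at hw
    rw [hnx] at hz'
    exact (mem_C.1 hz').symm
  have heM : e ∈ Subgroup.normalizer (Q : Set G) :=
    E.normalizes hx hx1 (by rw [hxe.symm.eq, mul_inv_cancel_right]; exact hx)
  haveI := Fintype.ofFinite (G ⧸ Subgroup.normalizer (Q : Set G))
  set o : G ⧸ Subgroup.normalizer (Q : Set G) := ((1 : G) : G ⧸ Subgroup.normalizer (Q : Set G))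
  have heo' : e • o = o := by
    rw [MulAction.Quotient.smul_coe, smul_eq_mul, mul_one, QuotientGroup.eq, mul_one, inv_mem_iff]
    exact heM
  obtain ⟨y, hy, hey⟩ : ∃ y, y ≠ o ∧ e • y = y := by
    by_contra hne
    push Not at hne
    let σ : Equiv.Perm (G ⧸ Subgroup.normalizer (Q : Set G)) := MulAction.toPerm e
    have hσ : σ * σ = 1 := Equiv.ext fun w => by
      show e • e • w = w
      rw [smul_smul, invol_mul_self heo, one_smul]
    have hsupp : σ.support = Finset.univ.erase o := by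
      ext w
      simp only [Equiv.Perm.mem_support, Finset.mem_erase, Finset.mem_univ, and_true]
      constructor
      · rintro hw rfl; exact hw heo'
      · intro hw; exact hne w hw
    have hdvd := Equiv.Perm.two_dvd_card_support (σ := σ) (by rw [pow_two]; exact hσ)
    rw [hsupp, Finset.card_erase_of_mem (Finset.mem_univ _), Finset.card_univ,
      ← Nat.card_eq_fintype_card, ← index_eq_card, E.index_normalizer, Nat.add_sub_cancel] at hdvd
    exact (Nat.not_even_iff_odd.2 E.qodd) (even_iff_two_dvd.2 hdvd)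
  have hall : ∀ w : G ⧸ Subgroup.normalizer (Q : Set G), e • w = w := by
    intro w
    by_cases hw : w = o
    · rw [hw]; exact heo'
    · obtain ⟨u, hu, -⟩ := E.reg y w hy hw
      rw [← hu, smul_smul, (heQ u u.2).eq, ← smul_smul, hey]
  have hker : e ∈ (Subgroup.normalizer (Q : Set G)).normalCore := by
    rw [normalCore_eq_ker, MonoidHom.mem_ker]
    exact Equiv.ext hall
  rw [E.faithful h.hss, Subgroup.mem_bot] at hker
  exact invol_ne_one heo hker

/-- The two-point stabilisers are abelian of order `q - 1`, the action sharply three-transitive. -/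
theorem pgl (h : Hyp2 G) :
    ∃ (F : Type) (_ : Field F) (_ : Fintype F), 3 < Fintype.card F ∧
      Nonempty (G ≃* Matrix.ProjGenLinGroup (Fin 2) F) := by
  classical
  haveI := Fintype.ofFinite (G ⧸ Subgroup.normalizer (Q : Set G))
  haveI := E.norm
  set M := Subgroup.normalizer (Q : Set G) with hMdef
  set o : G ⧸ M := ((1 : G) : G ⧸ M)
  have hq5 := E.q5
  have hbase : ∀ g : G, g • o = o ↔ g ∈ M := fun g => by
    rw [MulAction.Quotient.smul_coe, smul_eq_mul, mul_one, QuotientGroup.eq, mul_one, inv_mem_iff]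
  have hΩ : Fintype.card (G ⧸ M) = q + 1 := by
    rw [← Nat.card_eq_fintype_card, ← index_eq_card, E.index_normalizer]
  have h2t : ∀ a b : G ⧸ M, a ≠ b → ∀ c : G ⧸ M, c ≠ o → ∃ g : G, g • a = o ∧ g • b = c := by
    intro a b hab c hc
    obtain ⟨g, hg⟩ := MulAction.exists_smul_eq G a o
    obtain ⟨u, hu, -⟩ := E.reg (g • b) c (fun e => hab (smul_left_cancel g (hg.trans e.symm))) hc
    exact ⟨u * g, by rw [mul_smul, hg, (hbase _).2 (le_normalizer u.2)], by rw [mul_smul, hu]⟩
  have key : ∀ g : G, ∀ b c : G ⧸ M, b ≠ o → c ≠ o → b ≠ c → g • o = o → g • b = b → g • c = c →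
      g = 1 := by
    intro g b c hb hc hbc hgo hgb hgc
    obtain ⟨u, hu, huu⟩ := E.reg b c hb hc
    have hmem : g * u * g⁻¹ ∈ Q := (mem_normalizer_iff.1 ((hbase g).1 hgo) u).1 u.2
    have hfx : (g * u * g⁻¹) • b = c := by
      rw [mul_smul, mul_smul, inv_smul_eq_iff.2 hgb.symm, hu, hgc]
    have he : g * u * g⁻¹ = u := congrArg Subtype.val (huu ⟨_, hmem⟩ hfx)
    have hu1 : (u : G) ≠ 1 := fun e => hbc (by rw [← hu, e, one_smul])
    exact E.semireg ((E.cent_G h.toHyp u.2 hu1).le
      (mem_centralizer_singleton_iff.2 (mul_inv_eq_iff_eq_mul.1 he))) hb hgb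
  have h3 : ∀ g : G, ∀ a b c : G ⧸ M, a ≠ b → b ≠ c → a ≠ c → g • a = a → g • b = b → g • c = c →
      g = 1 := by
    intro g a b c hab hbc hac ha hb hc
    obtain ⟨k, hk⟩ := MulAction.exists_smul_eq G a o
    have h1 : k * g * k⁻¹ = 1 := by
      refine key _ (k • b) (k • c) (fun e => hab (smul_left_cancel k (hk.trans e.symm)))
        (fun e => hac (smul_left_cancel k (hk.trans e.symm))) (fun e => hbc (smul_left_cancel k e)) ?_ ?_ ?_
      · rw [mul_smul, mul_smul, inv_smul_eq_iff.2 hk.symm, ha, hk]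
      · rw [mul_smul, mul_smul, inv_smul_smul, hb]
      · rw [mul_smul, mul_smul, inv_smul_smul, hc]
    exact conj_eq_one_iff.1 h1
  obtain ⟨b, hb⟩ := Fintype.exists_ne_of_one_lt_card (show 1 < Fintype.card (G ⧸ M) by omega) o
  -- the two-point stabiliser
  set A := MulAction.stabilizer G o ⊓ MulAction.stabilizer G b with hAdef
  have hA : Nat.card A = q - 1 := by
    have hstab : MulAction.stabilizer G o = M := by
      ext g; exact hbase g
    let f : A × Q → M := fun x => ⟨(x.2 : G) * x.1,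
      mul_mem (le_normalizer x.2.2) (hstab.le x.1.2.1)⟩
    have hf : Function.Bijective f := by
      constructor
      · rintro ⟨a, u⟩ ⟨a', u'⟩ e
        have e' : (u : G) * a = u' * a' := congrArg Subtype.val e
        have e2 : ((u : G) • b) = (u' : G) • b := by
          have := congrArg (· • b) e'
          simpa [mul_smul, a.2.2, a'.2.2, MulAction.mem_stabilizer_iff.1 a.2.2,
            MulAction.mem_stabilizer_iff.1 a'.2.2] using this
        obtain ⟨w, -, hw⟩ := E.reg b ((u : G) • b) hb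
          (fun e3 => hb (smul_left_cancel (u : G) (e3.trans ((hbase _).2 (le_normalizer u.2)).symm)))
        have : u = u' := (hw u rfl).trans (hw u' e2.symm).symm
        subst this
        rw [mul_right_inj] at e'
        exact Prod.ext (Subtype.ext e') rfl
      · intro m
        obtain ⟨u, hu, -⟩ := E.reg b ((m : G) • b) hb (fun e3 =>
          hb (smul_left_cancel (m : G) (e3.trans ((hbase _).2 m.2).symm)))
        refine ⟨⟨⟨(u : G)⁻¹ * m, ?_, ?_⟩, u⟩, Subtype.ext (mul_inv_cancel_left _ _)⟩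
        · exact (hbase _).2 (mul_mem (inv_mem (le_normalizer u.2)) m.2)
        · exact MulAction.mem_stabilizer_iff.2 (by rw [mul_smul, ← hu, inv_smul_smul])
    have h1 := Nat.card_eq_of_bijective f hf
    rw [Nat.card_prod, E.cardQ, E.card_normalizer] at h1
    exact Nat.eq_of_mul_eq_mul_right (by omega : 0 < q) (by rw [h1, mul_comm])
  have hreg : ∀ c d : G ⧸ M, c ≠ o → c ≠ b → d ≠ o → d ≠ b → ∃ g ∈ A, g • c = d := by
    intro c d hco hcb hdo hdb
    let f : A → {w : G ⧸ M // w ∉ ({o, b} : Finset (G ⧸ M))} := fun g => ⟨(g : G) • c, by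
      simp only [Finset.mem_insert, Finset.mem_singleton, not_or]
      exact ⟨fun e => hco (smul_left_cancel (g : G) (e.trans g.2.1.symm)),
        fun e => hcb (smul_left_cancel (g : G) (e.trans g.2.2.symm))⟩⟩
    have hinj : Function.Injective f := fun g k e => by
      have e' : (g : G) • c = (k : G) • c := congrArg Subtype.val e
      refine Subtype.ext (inv_mul_eq_one.1 (h3 _ o b c hb.symm (fun e => hcb e.symm) (fun e => hco e.symm)
        ?_ ?_ ?_))
      · rw [mul_smul, show (k : G) • o = o from k.2.1, inv_smul_eq_iff, show (g : G) • o = o from g.2.1]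
      · rw [mul_smul, show (k : G) • b = b from k.2.2, inv_smul_eq_iff, show (g : G) • b = b from g.2.2]
      · rw [mul_smul, ← e', inv_smul_smul]
    have hbij : Function.Bijective f := by
      refine (Nat.bijective_iff_injective_and_card f).2 ⟨hinj, ?_⟩
      rw [Nat.card_eq_fintype_card (α := {w : G ⧸ M // w ∉ ({o, b} : Finset (G ⧸ M))}),
        Fintype.card_subtype_compl, Fintype.card_coe, Finset.card_pair hb.symm, hΩ, hA]
      omega
    obtain ⟨g, hg⟩ := hbij.2 ⟨d, by simp [hdo, hdb]⟩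
    exact ⟨g, g.2, congrArg Subtype.val hg⟩
  have h3t : ∀ a₁ a₂ a₃ : G ⧸ M, a₁ ≠ a₂ → a₁ ≠ a₃ → a₂ ≠ a₃ → ∀ b₃ : G ⧸ M, b₃ ≠ o → b₃ ≠ b →
      ∃ g : G, g • a₁ = o ∧ g • a₂ = b ∧ g • a₃ = b₃ := by
    intro a₁ a₂ a₃ h12 h13 h23 b₃ h31 h32
    obtain ⟨g, hg1, hg2⟩ := h2t a₁ a₂ h12 b hb
    obtain ⟨k, hk, hk3⟩ := hreg (g • a₃) b₃ (fun e => h13 (smul_left_cancel g (hg1.trans e.symm)))
      (fun e => h23 (smul_left_cancel g (hg2.trans e.symm))) h31 h32
    exact ⟨k * g, by rw [mul_smul, hg1, hk.1], by rw [mul_smul, hg2, hk.2], by rw [mul_smul, hk3]⟩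
  -- abelian
  have hAab : ∀ x ∈ A, ∀ y ∈ A, x * y = y * x := by
    have h2 : 2 ∣ Nat.card A := by
      rw [hA]; obtain ⟨m, hm⟩ := E.qodd; exact ⟨m, by omega⟩
    haveI : Fact (Nat.Prime 2) := ⟨Nat.prime_two⟩
    obtain ⟨⟨z, hzA⟩, hz⟩ := exists_prime_orderOf_dvd_card' 2 h2
    rw [Subgroup.orderOf_mk] at hz
    have hinv : ∀ i ∈ A, orderOf i = 2 → ∀ x ∈ Q, i * x * i⁻¹ = x⁻¹ := by
      intro i hi hio x hx
      have hiM : i ∈ M := (hbase i).1 hi.1
      have hx' : i * x * i⁻¹ ∈ Q := (mem_normalizer_iff.1 hiM x).1 hx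
      refine eq_inv_of_mul_eq_one_left ?_
      by_contra hne
      have hxi : Commute (i * x * i⁻¹ * x) i := by
        show i * x * i⁻¹ * x * i = i * (i * x * i⁻¹ * x)
        have hc := (E.commQ hx' hx).eq
        calc i * x * i⁻¹ * x * i = x * (i * x * i⁻¹) * i := by rw [hc]
          _ = x * i * x := by group
          _ = i * i * x * i⁻¹ * x := by rw [invol_inv hio, invol_mul_self hio, one_mul]
          _ = i * (i * x * i⁻¹ * x) := by group
      have hiQ := (E.cent_G h.toHyp (mul_mem hx' hx) hne).le (mem_centralizer_singleton_iff.2 hxi.symm.eq)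
      exact invol_ne_one hio (E.semireg hiQ hb hi.2)
    have huniq : ∀ i ∈ A, orderOf i = 2 → i = z := by
      intro i hi hio
      obtain ⟨x, hx, hx1⟩ : ∃ x ∈ Q, x ≠ 1 := by
        by_contra hno
        push Not at hno
        have := E.cardQ
        rw [(eq_bot_iff_forall Q).2 hno, card_bot] at this; omega
      have hc : i * z ∈ centralizer ({x} : Set G) := by
        refine mem_centralizer_singleton_iff.2 ?_
        have h1 : i * z * x * (i * z)⁻¹ = x := by
          rw [show i * z * x * (i * z)⁻¹ = i * (z * x * z⁻¹) * i⁻¹ by group, hinv z hzA hz x hx,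
            hinv i hi hio _ (inv_mem hx), inv_inv]
        exact mul_inv_eq_iff_eq_mul.1 h1
      rw [E.cent_G h.toHyp hx hx1] at hc
      have h1 := E.semireg hc hb (by rw [mul_smul, hzA.2, hi.2])
      rw [← invol_inv hio]
      exact inv_eq_of_mul_eq_one_right h1
    have hAK : ∀ x ∈ A, x ∈ h.K z hz := by
      intro x hx
      have hxz : Commute x z := by
        have := huniq (x * z * x⁻¹) (mul_mem (mul_mem hx hzA) (inv_mem hx)) (by rw [orderOf_conj_eq, hz])
        exact mul_inv_eq_iff_eq_mul.1 this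
      by_contra hxK
      exact hxK (by rw [huniq x hx (h.outside hz hxz hxK).1]; exact h.t_mem_K hz)
    exact fun x hx y hy => (h.K_comm hz (hAK x hx) (hAK y hy)).eq
  -- transport to the permutation group
  obtain ⟨φ, hφ⟩ : ∃ φ : G →* Equiv.Perm (G ⧸ M), φ = MulAction.toPermHom G (G ⧸ M) := ⟨_, rfl⟩
  have hφi : Function.Injective φ := by
    rw [← MonoidHom.ker_eq_bot_iff, hφ, ← normalCore_eq_ker]
    exact E.faithful h.hss
  have hφs : ∀ (g : G) (w : G ⧸ M), φ g w = g • w := fun g w => by rw [hφ]; rfl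
  have hc3 : ∀ x : Fin 3 ↪ G ⧸ M, x 0 ≠ x 1 ∧ x 0 ≠ x 2 ∧ x 1 ≠ x 2 := fun x =>
    ⟨fun e => absurd (x.injective e) (by decide), fun e => absurd (x.injective e) (by decide),
      fun e => absurd (x.injective e) (by decide)⟩
  obtain ⟨c, hc⟩ : ∃ c, c ∉ ({o, b} : Finset (G ⧸ M)) := by
    refine not_forall.1 fun hall => ?_
    have h1 := Finset.card_le_card (show Finset.univ ⊆ ({o, b} : Finset (G ⧸ M)) from fun w _ => hall w)
    rw [Finset.card_univ, hΩ, Finset.card_pair hb.symm] at h1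
    omega
  simp only [Finset.mem_insert, Finset.mem_singleton, not_or] at hc
  have hpt : MulAction.IsMultiplyPretransitive φ.range (G ⧸ M) 3 := by
    rw [MulAction.isMultiplyPretransitive_iff]
    intro x y
    obtain ⟨g, hg1, hg2, hg3⟩ := h3t (x 0) (x 1) (x 2) (hc3 x).1 (hc3 x).2.1 (hc3 x).2.2 c hc.1 hc.2
    obtain ⟨k, hk1, hk2, hk3⟩ := h3t (y 0) (y 1) (y 2) (hc3 y).1 (hc3 y).2.1 (hc3 y).2.2 c hc.1 hc.2
    refine ⟨⟨φ (k⁻¹ * g), _, rfl⟩, ?_⟩
    ext i
    show φ (k⁻¹ * g) (x i) = y i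
    rw [hφs, mul_smul, inv_smul_eq_iff]
    fin_cases i
    · simp [hg1, hk1]
    · simp [hg2, hk2]
    · simp [hg3, hk3]
  have hsharp : ∀ x : Fin 3 ↪ G ⧸ M, MulAction.stabilizer φ.range x = ⊥ := by
    intro x
    rw [Subgroup.eq_bot_iff_forall]
    rintro ⟨_, g, rfl⟩ hg
    rw [MulAction.mem_stabilizer_iff] at hg
    have e : ∀ i, g • x i = x i := fun i => by
      have := DFunLike.congr_fun hg i
      rw [← hφs]; exact this
    refine Subtype.ext ?_
    show φ g = 1
    rw [h3 g (x 0) (x 1) (x 2) (hc3 x).1 (hc3 x).2.2 (hc3 x).2.1 (e 0) (e 1) (e 2), map_one]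
  have hab : ∀ a a' : G ⧸ M, a ≠ a' → ∀ g k : φ.range, g • a = a → g • a' = a' → k • a = a → k • a' = a' →
      g * k = k * g := by
    rintro a a' hne ⟨_, g, rfl⟩ ⟨_, k, rfl⟩ hga hga' hka hka'
    replace hga : g • a = a := by rw [← hφs]; exact hga
    replace hga' : g • a' = a' := by rw [← hφs]; exact hga'
    replace hka : k • a = a := by rw [← hφs]; exact hka
    replace hka' : k • a' = a' := by rw [← hφs]; exact hka'
    obtain ⟨m, hm, hm'⟩ := h2t a a' hne b hb
    have hmem : ∀ g : G, g • a = a → g • a' = a' → m * g * m⁻¹ ∈ A := fun g e e' =>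
      ⟨MulAction.mem_stabilizer_iff.2 (by rw [mul_smul, mul_smul, inv_smul_eq_iff.2 hm.symm, e, hm]),
        MulAction.mem_stabilizer_iff.2 (by rw [mul_smul, mul_smul, inv_smul_eq_iff.2 hm'.symm, e', hm'])⟩
    have h1 := hAab _ (hmem g hga hga') _ (hmem k hka hka')
    have h2 : g * k = k * g := by
      have e := congrArg (fun w => m⁻¹ * w * m) h1
      simpa [mul_assoc] using e
    refine Subtype.ext ?_
    show φ g * φ k = φ k * φ g
    rw [← map_mul, ← map_mul, h2]
  obtain ⟨F, iF, iFf, hcard, ⟨e⟩⟩ :=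
    CfsgLib.Perm.sharply_three_pgl_of_abelian φ.range hpt hsharp hab (by omega)
  refine ⟨F, iF, iFf, by omega, ⟨(MonoidHom.ofInjective hφi).trans e⟩⟩

end ExtData

/-- The identification when the involutions of a commuting pair need not share centralizers. -/
theorem Hyp2.recognition [Nontrivial G] (h : Hyp2 G) :
    ∃ (F : Type) (_ : Field F) (_ : Fintype F), 3 < Fintype.card F ∧
      (Nonempty (G ≃* Matrix.ProjectiveSpecialLinearGroup (Fin 2) F) ∨
        Nonempty (G ≃* Matrix.ProjGenLinGroup (Fin 2) F)) := by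
  haveI : Fintype G := Fintype.ofFinite G
  rcases h.dichotomy with ⟨t, s, K, S⟩ | ⟨N, hN, hidx, hNss, hNn, t, s, K, S⟩
  · haveI := isSimple_of_setup h.hss S
    have hna : ¬ IsMulCommutative G := fun hc => by
      have h1 := h.hss ⊤ inferInstance (Group.isSolvable_of_comm fun a b => Subtype.ext (hc.is_comm.comm _ _))
      exact absurd h1 top_ne_bot
    obtain ⟨F, iF, iFf, -, h5, he⟩ := CfsgLib.InvChar.BSW.Conclusion.exists_psl hna S.main
    exact ⟨F, iF, iFf, by omega, Or.inl he⟩
  · haveI := hN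
    haveI : Fintype N := Fintype.ofFinite N
    haveI := isSimple_of_setup hNss S
    have hna : ¬ IsMulCommutative N := fun hc => by
      have h1 := hNss ⊤ inferInstance (Group.isSolvable_of_comm fun a b => Subtype.ext (hc.is_comm.comm _ _))
      exact absurd h1 top_ne_bot
    obtain ⟨Q, p, q, E⟩ := ExtData.of_conclusion hidx hna S.main
    obtain ⟨F, iF, iFf, h3, he⟩ := E.pgl h
    exact ⟨F, iF, iFf, h3, Or.inr he⟩

end CfsgLib.NormEven
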