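import Cfsg.Agent.Lib.InvChar.NormEven.Basic

/-!
An element of odd prime order is centralized by at most one involution.
-/

set_option autoImplicit false
set_option linter.unusedSectionVars false

namespace CfsgLib.NormEven.Hyp2

open CfsgLib.Invol

universe u

variable {G : Type u} [Group G] [Finite G] (h : Hyp2 G)
include h

theorem invol_eq_of_commute_prime {p : ℕ} (hp : p.Prime) (hp2 : p ≠ 2) {t w a : G}
    (ha : orderOf a = p) (ht : orderOf t = 2) (hw : orderOf w = 2) (hat : Commute a t)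
    (haw : Commute a w) : w = t := by
  by_contra hne
  have ha1 : a ≠ 1 := fun e => hp.one_lt.ne' (by rw [← ha, e, orderOf_one])
  have hao : Odd (orderOf a) := ha ▸ hp.odd_of_ne_two hp2
  have ceq : ∀ r : G, orderOf r = 2 → Commute a r → C r = C t := fun r hr hc =>
    h.toHyp.cent_eq hr ht hc hat hao ha1
  have hwt : C w = C t := ceq w hw haw
  have htw : Commute t w := mem_C.1 (hwt ▸ (mem_C.2 (Commute.refl t)) : t ∈ C w)
  -- commuting conjugates share the centralizer
  have hi : ∀ g : G, Commute (g * t * g⁻¹) t → C (g * t * g⁻¹) = C t := by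
    intro g hc
    set v := g * t * g⁻¹ with hv
    have hvo : orderOf v = 2 := by rw [hv, orderOf_conj_eq, ht]
    rcases h.toHyp.prime_cases hp hp2 ha ht hat hvo hc with e | hva
    · exact ceq v hvo e.symm
    exfalso
    set a' := g * a * g⁻¹ with ha'd
    set w' := g * w * g⁻¹ with hw'd
    have ha' : orderOf a' = p := by rw [ha'd, orderOf_conj_eq, ha]
    have hw' : orderOf w' = 2 := by rw [hw'd, orderOf_conj_eq, hw]
    have ha'v : Commute a' v := by
      have := hat.map (MulAut.conj g).toMonoidHom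
      simpa [ha'd, hv, mul_assoc] using this
    have ha'w : Commute a' w' := by
      have := haw.map (MulAut.conj g).toMonoidHom
      simpa [ha'd, hw'd, mul_assoc] using this
    have ha'1 : a' ≠ 1 := fun e => hp.one_lt.ne' (by rw [← ha', e, orderOf_one])
    have ceq' : ∀ r : G, orderOf r = 2 → Commute a' r → C r = C v := fun r hr hc =>
      h.toHyp.cent_eq hr hvo hc ha'v (ha' ▸ hp.odd_of_ne_two hp2) ha'1
    have hnc : ¬ Commute v a := fun e => by
      rw [e.eq, mul_inv_cancel_right] at hva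
      exact ha1 (eq_one_of_sq_of_odd (by nth_rewrite 1 [hva]; exact inv_mul_cancel a) hao)
    -- `w'` commutes with `t`
    have hw't : Commute w' t := by
      have h1 : t ∈ C w' := by rw [ceq' w' hw' ha'w]; exact mem_C.2 hc.symm
      exact (mem_C.1 h1).symm
    rcases h.toHyp.prime_cases hp hp2 ha ht hat hw' hw't with e | hw'a
    · have h1 : C v = C t := (ceq' w' hw' ha'w).symm.trans (ceq w' hw' e.symm)
      exact hnc (mem_C.1 (h1.symm ▸ mem_C.2 hat : a ∈ C v)).symm
    · have hne' : v ≠ w' := fun e => hne (by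
        rw [hv, hw'd] at e
        exact (mul_left_cancel (mul_right_cancel e)).symm)
      have hvw : Commute v w' := by
        have h1 : v ∈ C w' := by rw [ceq' w' hw' ha'w]; exact mem_C.2 (Commute.refl v)
        exact mem_C.1 h1
      have hor := invol_mul hvo hw' hvw hne'
      have h1 : C v = C t := (ceq' (v * w') hor (ha'v.mul_right ha'w)).symm.trans
        (ceq (v * w') hor (commute_mul_of_invert hva hw'a).symm)
      exact hnc (mem_C.1 (h1.symm ▸ mem_C.2 hat : a ∈ C v)).symm
  set H := Subgroup.normalizer (C t : Set G)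
  -- involutions normalizing `C(t)` lie in it
  have hii : ∀ d : G, orderOf d = 2 → d ∈ H → Commute d t := by
    intro d hd hdH
    set t' := d * t * d⁻¹ with ht'
    have h1 : t' ∈ C t := (Subgroup.mem_normalizer_iff.1 hdH t).1 (mem_C.2 (Commute.refl t))
    by_cases he : t' = t
    · exact mul_inv_eq_iff_eq_mul.1 he
    have hat' : Commute a t' := mem_C.1 ((hi d (mem_C.1 h1)).symm ▸ mem_C.2 hat : a ∈ C t')
    have hto : orderOf t' = 2 := by rw [ht', orderOf_conj_eq, ht]
    have hr := invol_mul ht hto (mem_C.1 h1).symm (Ne.symm he)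
    have hdr : Commute d (t * t') := by
      refine mul_inv_eq_iff_eq_mul.1 ?_
      rw [show d * (t * t') * d⁻¹ = (d * t * d⁻¹) * ((d * d) * t * (d * d)⁻¹) by rw [ht']; group,
        invol_mul_self hd, one_mul, inv_one, mul_one, ← ht', (mem_C.1 h1).eq]
    exact mem_C.1 ((ceq _ hr (hat.mul_right hat')) ▸ mem_C.2 hdr : d ∈ C t)
  -- conjugates in a `2`-group
  have hle : ∀ P : Subgroup G, IsPGroup 2 P → t ∈ P → P ≤ H := by
    intro P hP htP
    by_contra hnot
    have hlt : H.subgroupOf P < ⊤ := by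
      rw [lt_top_iff_ne_top, Ne, Subgroup.subgroupOf_eq_top]; exact hnot
    have : Fact (Nat.Prime 2) := ⟨Nat.prime_two⟩
    have := hP.isNilpotent
    obtain ⟨x, hx, hxH⟩ :=
      SetLike.exists_of_lt (Group.normalizerCondition_of_isNilpotent (H.subgroupOf P) hlt)
    apply hxH
    rw [Subgroup.mem_subgroupOf]
    have h1 : (x : G) * t * (x : G)⁻¹ ∈ H := by
      have := (Subgroup.mem_normalizer_iff.1 hx ⟨t, htP⟩).1
        (Subgroup.le_normalizer (mem_C.2 (Commute.refl t) : t ∈ C t))
      simpa [Subgroup.mem_subgroupOf] using this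
    have h2 := hi x (hii _ (by rw [orderOf_conj_eq, ht]) h1)
    refine Subgroup.mem_normalizer_iff.2 fun z => ?_
    have e := mem_C_conj (g := (x : G)) (t := t) (x := (x : G) * z * (x : G)⁻¹)
    rw [h2, show (x : G)⁻¹ * ((x : G) * z * (x : G)⁻¹) * x = z by group] at e
    exact e.symm
  have hpair : ∀ P : Subgroup G, IsPGroup 2 P → t ∈ P → ∀ g : G, g * t * g⁻¹ ∈ P →
      Commute (g * t * g⁻¹) t := fun P hP htP g hg =>
    hii _ (by rw [orderOf_conj_eq, ht]) (hle P hP htP hg)
  -- other centralizers are `2`-groups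
  have hfive : ∀ r : G, orderOf r = 2 → Commute r t → C r ≠ C t → IsPGroup 2 (C r) := by
    intro r hr hrt hrne
    refine isPGroup_of_no_odd fun q hq hq2 b hb hbo => ?_
    rw [mem_C] at hb
    have hb1 : b ≠ 1 := fun e => hq.one_lt.ne' (by rw [← hbo, e, orderOf_one])
    have hbodd : Odd (orderOf b) := hbo ▸ hq.odd_of_ne_two hq2
    have hrw : Commute r w := mem_C.1 (hwt.symm ▸ mem_C.2 hrt : r ∈ C w)
    rcases h.toHyp.prime_cases hq hq2 hbo hr hb ht hrt.symm with e | htb
    · exact hrne (h.toHyp.cent_eq hr ht hb e.symm hbodd hb1)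
    rcases h.toHyp.prime_cases hq hq2 hbo hr hb hw hrw.symm with e | hwb
    · exact hrne ((h.toHyp.cent_eq hr hw hb e.symm hbodd hb1).trans hwt)
    have htwo := invol_mul ht hw htw (Ne.symm hne)
    exact hrne ((h.toHyp.cent_eq hr htwo hb (commute_mul_of_invert htb hwb).symm hbodd hb1).trans
      (ceq _ htwo (hat.mul_right haw)))
  obtain ⟨r, hr, hrt, hrne⟩ := h.nc t ht
  obtain ⟨g, hg⟩ := h.toHyp.exists_conj_not_commute ht
  have hgo : orderOf (g * t * g⁻¹) = 2 := by rw [orderOf_conj_eq, ht]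
  have hnconj : ¬ IsConj r (g * t * g⁻¹) := by
    intro hc
    obtain ⟨k, hk⟩ := isConj_iff.1 hc
    refine hrne ?_
    have hr' : r = (k⁻¹ * g) * t * (k⁻¹ * g)⁻¹ := by
      rw [show (k⁻¹ * g) * t * (k⁻¹ * g)⁻¹ = k⁻¹ * (g * t * g⁻¹) * k by group, ← hk]; group
    rw [hr'] at hrt ⊢
    exact hi _ hrt
  obtain ⟨w1, hw1, hw1r, hw1v⟩ := exists_commute_both hr hgo (even_of_not_isConj hr hgo hnconj)
  have hP := hfive r hr hrt hrne
  have hw1t : Commute w1 t :=
    hii w1 hw1 (hle _ hP (mem_C.2 hrt.symm) (mem_C.2 hw1r))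
  by_cases hw1e : C w1 = C t
  · exact hg (mem_C.1 (hw1e ▸ mem_C.2 hw1v.symm : g * t * g⁻¹ ∈ C t))
  · exact hg (hpair _ (hfive w1 hw1 hw1t hw1e) (mem_C.2 hw1t.symm) g (mem_C.2 hw1v.symm))

/-- An element of odd order is centralized by at most one involution. -/
theorem invol_eq_of_commute_odd {t w a : G} (ht : orderOf t = 2) (hw : orderOf w = 2)
    (ha : Odd (orderOf a)) (ha1 : a ≠ 1) (hat : Commute a t) (haw : Commute a w) : w = t := by
  obtain ⟨p, hp, hpd⟩ := Nat.exists_prime_and_dvd (show orderOf a ≠ 1 by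
    simpa [orderOf_eq_one_iff] using ha1)
  have hp2 : p ≠ 2 := by
    rintro rfl
    exact Nat.not_even_iff_odd.2 ha (even_iff_two_dvd.2 hpd)
  exact h.invol_eq_of_commute_prime hp hp2
    (orderOf_pow_orderOf_div (orderOf_pos a).ne' hpd) ht hw (hat.pow_left _) (haw.pow_left _)

end CfsgLib.NormEven.Hyp2
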