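import Cfsg.Agent.Lib.InvChar.NormEven.Odd
import Cfsg.Agent.Lib.Invol.Strong

/-!
A square root of an involution is centralized by no further involution.
-/

set_option autoImplicit false
set_option linter.unusedSectionVars false

namespace CfsgLib.NormEven

open CfsgLib.Invol

universe u

variable {G : Type u} [Group G] [Finite G]

/-- An involution, a square root and a second involution commuting with the root. -/
structure Triple (t x w : G) : Prop where
  ht : orderOf t = 2
  hx : x * x = t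
  hw : orderOf w = 2
  hwx : Commute w x
  hne : w ≠ t

namespace Triple

variable {t x w : G} (T : Triple t x w)
include T

theorem conj (g : G) : Triple (g * t * g⁻¹) (g * x * g⁻¹) (g * w * g⁻¹) where
  ht := by rw [orderOf_conj_eq, T.ht]
  hx := by rw [← T.hx]; group
  hw := by rw [orderOf_conj_eq, T.hw]
  hwx := by simpa [mul_assoc] using T.hwx.map (MulAut.conj g).toMonoidHom
  hne := fun e => T.hne (mul_left_cancel (mul_right_cancel e))

theorem commute_wt : Commute w t := T.hx ▸ T.hwx.mul_right T.hwx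

theorem mul_root : x * w * (x * w) = t := by
  rw [T.hwx.mul_mul_mul_comm, T.hx, invol_mul_self T.hw, mul_one]

variable (h : Hyp2 G)
include h

theorem cent_isPGroup : IsPGroup 2 (C t) := by
  refine isPGroup_of_no_odd fun p hp hp2 b hb hbo => T.hne ?_
  rw [mem_C] at hb
  have hodd : Odd (orderOf b) := hbo ▸ hp.odd_of_ne_two hp2
  have h1 := h.toHyp.root_odd_commute T.ht T.hx hb hodd
  have h2 := h.toHyp.root_odd_commute T.ht T.mul_root hb hodd
  have h3 : Commute b w := by simpa using h1.inv_right.mul_right h2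
  exact h.invol_eq_of_commute_prime hp hp2 hbo T.ht T.hw hb h3

theorem four_of_invert {g y : G} (hc : Commute (g * t * g⁻¹) t) (hy : y * y = t)
    (hinv : (g * t * g⁻¹) * y * (g * t * g⁻¹)⁻¹ = y⁻¹) {f : G} (hft : Commute f t)
    (hfv : Commute f (g * t * g⁻¹)) :
    f = 1 ∨ f = t ∨ f = g * t * g⁻¹ ∨ f = t * (g * t * g⁻¹) := by
  set v := g * t * g⁻¹ with hv
  have hvo : orderOf v = 2 := by rw [hv, orderOf_conj_eq, T.ht]
  have hvi := invol_inv hvo
  have hti := invol_inv T.ht
  obtain ⟨y', hy'⟩ : ∃ y', y' * y' = v := ⟨g * x * g⁻¹, (T.conj g).hx⟩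
  have hyt : Commute y t := hy ▸ (Commute.refl y).mul_right (Commute.refl y)
  have hy'v : Commute y' v := hy' ▸ (Commute.refl y').mul_right (Commute.refl y')
  have hnvy : ¬ Commute v y := fun e => by
    rw [e.eq, mul_inv_cancel_right] at hinv
    exact root_ne_inv T.ht hy hinv
  have hinv' : t * y' * t⁻¹ = y'⁻¹ := by
    rcases h.toHyp.root_conj hvo hy' hc.symm with e | e
    · exfalso
      refine hnvy ?_
      rcases h.toHyp.root_conj T.ht hy ((mul_inv_eq_iff_eq_mul.1 e : t * y' = y' * t).symm :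
          Commute y' t) with e' | e'
      · have h1 : Commute y' y := mul_inv_eq_iff_eq_mul.1 e'
        exact hy' ▸ h1.mul_left h1
      · exact hy' ▸ commute_mul_of_invert e' e'
    · exact e
  -- the action on the four-group
  have e1 : v * y = y⁻¹ * v := mul_inv_eq_iff_eq_mul.1 hinv
  have a1 : y * v * y⁻¹ = t * v := by
    have h1 : v * y⁻¹ = y * v := by
      calc v * y⁻¹ = (v * y * v⁻¹)⁻¹ * v := by group
        _ = y * v := by rw [hinv, inv_inv]
    rw [mul_assoc, h1, ← mul_assoc, hy]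
  have a2 : y' * t * y'⁻¹ = v * t := by
    have h1 : t * y'⁻¹ = y' * t := by
      calc t * y'⁻¹ = (t * y' * t⁻¹)⁻¹ * t := by group
        _ = y' * t := by rw [hinv', inv_inv]
    rw [mul_assoc, h1, ← mul_assoc, hy']
  set e := y * y' with he
  have b1 : e * t * e⁻¹ = v := by
    rw [he, show y * y' * t * (y * y')⁻¹ = y * (y' * t * y'⁻¹) * y⁻¹ by group, a2,
      show y * (v * t) * y⁻¹ = (y * v * y⁻¹) * (y * t * y⁻¹) by group, a1, hyt.eq,
      mul_inv_cancel_right, hc.symm.eq, mul_assoc, invol_mul_self T.ht, mul_one]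
  have b2 : e * v * e⁻¹ = t * v := by
    rw [he, show y * y' * v * (y * y')⁻¹ = y * (y' * v * y'⁻¹) * y⁻¹ by group, hy'v.eq,
      mul_inv_cancel_right, a1]
  have b3 : e * (t * v) * e⁻¹ = t := by
    rw [show e * (t * v) * e⁻¹ = (e * t * e⁻¹) * (e * v * e⁻¹) by group, b1, b2, ← mul_assoc,
      hc.eq, mul_assoc, invol_mul_self hvo, mul_one]
  have hcyc : ∀ n : ℕ, e ^ n * t * (e ^ n)⁻¹ =
      if n % 3 = 0 then t else if n % 3 = 1 then v else t * v := by
    intro n
    induction n with
    | zero => simp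
    | succ n ih =>
      rw [pow_succ', show e * e ^ n * t * (e * e ^ n)⁻¹ = e * (e ^ n * t * (e ^ n)⁻¹) * e⁻¹ by group,
        ih]
      have h3 : n % 3 = 0 ∨ n % 3 = 1 ∨ n % 3 = 2 := by omega
      rcases h3 with h3 | h3 | h3
      · rw [if_pos h3, b1, if_neg (by omega), if_pos (by omega)]
      · rw [if_neg (by omega), if_pos h3, b2, if_neg (by omega), if_neg (by omega)]
      · rw [if_neg (by omega), if_neg (by omega), b3, if_pos (by omega)]
  obtain ⟨ν, m, hm2, hm⟩ := Nat.exists_eq_pow_mul_and_not_dvd (orderOf_pos e).ne' 2 (by norm_num)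
  set ρ := e ^ (2 ^ ν) with hρd
  have hmodd : Odd m := Nat.not_even_iff_odd.1 (mt even_iff_two_dvd.1 hm2)
  have hρo : Odd (orderOf ρ) := hmodd.of_dvd_nat (orderOf_dvd_of_pow_eq_one (by
    rw [hρd, ← pow_mul, ← hm, pow_orderOf_eq_one]))
  have hρt : ρ * t * ρ⁻¹ = v ∨ ρ * t * ρ⁻¹ = t * v := by
    rw [hρd, hcyc]
    have h3 : 2 ^ ν % 3 ≠ 0 := fun h0 => absurd
      (Nat.prime_three.dvd_of_dvd_pow (Nat.dvd_of_mod_eq_zero h0)) (by norm_num)
    rw [if_neg h3]
    split_ifs <;> simp
  have hne : v ≠ t := fun e0 => hnvy (e0 ▸ hyt.symm)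
  have htv := invol_mul T.ht hvo hc.symm (Ne.symm hne)
  have hρ1 : ρ ≠ 1 := fun e0 => by
    rw [e0, one_mul, inv_one, mul_one] at hρt
    rcases hρt with e2 | e2
    · exact hne e2.symm
    · exact invol_ne_one hvo (left_eq_mul.1 e2)
  -- no nontrivial element commutes with `t`, `v`, `y`, `y'`
  have hI : ∀ z : G, Commute z t → Commute z y → Commute z y' → z = 1 := by
    intro z hzt hzy hzy'
    by_contra hz1
    obtain ⟨k, hk⟩ : ∃ k, orderOf z = 2 ^ k := by
      obtain ⟨k, hk⟩ := (T.cent_isPGroup h) ⟨z, mem_C.2 hzt⟩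
      have h1 : orderOf z ∣ 2 ^ k := orderOf_dvd_of_pow_eq_one (congrArg Subtype.val hk)
      obtain ⟨j, -, hj⟩ := (Nat.dvd_prime_pow Nat.prime_two).1 h1
      exact ⟨j, hj⟩
    have hk0 : k ≠ 0 := fun e0 => hz1 (orderOf_eq_one_iff.1 (by rw [hk, e0, pow_zero]))
    have hro : orderOf (z ^ (orderOf z / 2)) = 2 := orderOf_pow_orderOf_div (orderOf_pos z).ne'
      (by rw [hk]; exact dvd_pow_self 2 hk0)
    set r := z ^ (orderOf z / 2) with hr
    have hρr : Commute ρ r := (((hzy.pow_left _).symm.mul_left (hzy'.pow_left _).symm)).pow_left _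
    have hc1 := h.toHyp.odd_conj hro hρr hρo hρ1 ((hzt.pow_left (orderOf z / 2)).symm)
    have hmem : t * (ρ * t * ρ⁻¹) ∈ Subgroup.zpowers ρ := by
      have := mul_mem hc1 (inv_mem (Subgroup.mem_zpowers ρ))
      rw [hti] at this
      rwa [show t * (ρ * t * ρ⁻¹) = t * ρ * t * ρ⁻¹ by group]
    have hord : orderOf (t * (ρ * t * ρ⁻¹)) ∣ orderOf ρ :=
      Nat.card_zpowers ρ ▸ Subgroup.orderOf_dvd_natCard _ hmem
    rcases hρt with e2 | e2 <;> rw [e2] at hord
    · rw [htv] at hord
      exact Nat.not_even_iff_odd.2 hρo (even_iff_two_dvd.2 hord)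
    · rw [← mul_assoc, invol_mul_self T.ht, one_mul, hvo] at hord
      exact Nat.not_even_iff_odd.2 hρo (even_iff_two_dvd.2 hord)
  -- signs
  have s1 : t * y * t⁻¹ = y := by rw [hyt.symm.eq, mul_inv_cancel_right]
  have s2 : v * y' * v⁻¹ = y' := by rw [hy'v.symm.eq, mul_inv_cancel_right]
  rcases h.toHyp.root_conj T.ht hy hft with f1 | f1 <;>
    rcases h.toHyp.root_conj hvo hy' hfv with f2 | f2
  · exact Or.inl (hI f hft (mul_inv_eq_iff_eq_mul.1 f1) (mul_inv_eq_iff_eq_mul.1 f2))
  · right; left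
    have h1 := hI (t * f) ((Commute.refl t).mul_left hft)
      ((hyt.symm).mul_left (mul_inv_eq_iff_eq_mul.1 f1)) (commute_mul_of_invert hinv' f2)
    rw [← hti]; exact eq_inv_of_mul_eq_one_right h1
  · right; right; left
    have h1 := hI (v * f) (hc.mul_left hft) (commute_mul_of_invert hinv f1)
      (hy'v.symm.mul_left (mul_inv_eq_iff_eq_mul.1 f2))
    rw [← hvi]; exact eq_inv_of_mul_eq_one_right h1
  · right; right; right
    have k1 : t * v * y * (t * v)⁻¹ = y⁻¹ := by
      rw [show t * v * y * (t * v)⁻¹ = t * (v * y * v⁻¹) * t⁻¹ by group, hinv,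
        show t * y⁻¹ * t⁻¹ = (t * y * t⁻¹)⁻¹ by group, s1]
    have k2 : t * v * y' * (t * v)⁻¹ = y'⁻¹ := by
      rw [show t * v * y' * (t * v)⁻¹ = t * (v * y' * v⁻¹) * t⁻¹ by group, s2, hinv']
    have h1 := hI (t * v * f) (((Commute.refl t).mul_left hc).mul_left hft)
      (commute_mul_of_invert k1 f1) (commute_mul_of_invert k2 f2)
    rw [eq_inv_of_mul_eq_one_right h1, mul_inv_rev, hvi, hti, hc.eq]

theorem conj_commute_root {g y : G} (hc : Commute (g * t * g⁻¹) t) (hy : y * y = t) :
    Commute (g * t * g⁻¹) y := by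
  set v := g * t * g⁻¹ with hv
  rcases h.toHyp.root_conj T.ht hy hc with e | hinv
  · exact mul_inv_eq_iff_eq_mul.1 e
  exfalso
  have hvo : orderOf v = 2 := by rw [hv, orderOf_conj_eq, T.ht]
  have hfour : ∀ z : G, z * z = t → ¬ Commute z v := by
    intro z hz hzv
    have hzt : Commute z t := hz ▸ (Commute.refl z).mul_right (Commute.refl z)
    have h4 : z * z ≠ 1 := by rw [hz]; exact invol_ne_one T.ht
    rcases T.four_of_invert h hc hy hinv hzt hzv with e | e | e | e <;> apply h4 <;> rw [e]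
    · exact mul_one 1
    · exact invol_mul_self T.ht
    · exact invol_mul_self hvo
    · rw [hc.mul_mul_mul_comm, invol_mul_self T.ht, invol_mul_self hvo, one_mul]
  have hinvx : v * x * v⁻¹ = x⁻¹ := (h.toHyp.root_conj T.ht T.hx hc).resolve_left
    fun e => hfour x T.hx (mul_inv_eq_iff_eq_mul.1 e : v * x = x * v).symm
  have hinvxw : v * (x * w) * v⁻¹ = (x * w)⁻¹ := (h.toHyp.root_conj T.ht T.mul_root hc).resolve_left
    fun e => hfour (x * w) T.mul_root (mul_inv_eq_iff_eq_mul.1 e : v * (x * w) = x * w * v).symm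
  have hvw : Commute w v := by
    refine (mul_inv_eq_iff_eq_mul.1 (?_ : v * w * v⁻¹ = w) : Commute v w).symm
    rw [show v * w * v⁻¹ = (v * x * v⁻¹)⁻¹ * (v * (x * w) * v⁻¹) by group, hinvx, hinvxw, inv_inv,
      mul_inv_rev, invol_inv T.hw, T.hwx.inv_right.eq, ← mul_assoc, mul_inv_cancel, one_mul]
  have hxt : Commute x t := T.hx ▸ (Commute.refl x).mul_right (Commute.refl x)
  rcases T.four_of_invert h hc hy hinv T.commute_wt hvw with e | e | e | e
  · exact invol_ne_one T.hw e
  · exact T.hne e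
  · exact hfour x T.hx (by have h1 := T.hwx.symm; rwa [e] at h1)
  · refine hfour x T.hx ?_
    have h1 : Commute x (t * v) := e ▸ T.hwx.symm
    simpa using hxt.inv_right.mul_right h1

theorem commute_roots_two {g y y' : G} (hc : Commute (g * t * g⁻¹) t) (hne : g * t * g⁻¹ ≠ t)
    (hy : y * y = t) (hy' : y' * y' = g * t * g⁻¹) : Commute y y' := by
  set v := g * t * g⁻¹ with hv
  have hvo : orderOf v = 2 := by rw [hv, orderOf_conj_eq, T.ht]
  have hy'v : Commute y' v := hy' ▸ (Commute.refl y').mul_right (Commute.refl y')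
  have hy'' : g⁻¹ * y' * g * (g⁻¹ * y' * g) = t := by
    rw [show g⁻¹ * y' * g * (g⁻¹ * y' * g) = g⁻¹ * (y' * y') * g by group, hy', hv]; group
  have h1 : Commute y' t := by
    have hc' : Commute (g⁻¹ * t * g⁻¹⁻¹) t := by
      have := hc.symm.map (MulAut.conj g⁻¹).toMonoidHom
      simpa [hv, mul_assoc] using this
    have := ((T.conj_commute_root h hc' hy'').symm).map (MulAut.conj g).toMonoidHom
    simpa [mul_assoc] using this
  have h2 : Commute y v := (T.conj_commute_root h hc hy).symm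
  rcases h.toHyp.root_conj T.ht hy h1 with e | e
  · exact (mul_inv_eq_iff_eq_mul.1 e : y' * y = y * y').symm
  exfalso
  have h3 : y' * y * y'⁻¹ * y⁻¹ = t := by
    rw [e, ← mul_inv_rev, hy, invol_inv T.ht]
  rcases h.toHyp.root_conj hvo hy' h2 with e' | e'
  · rw [show y' * y * y'⁻¹ * y⁻¹ = y' * (y * y' * y⁻¹)⁻¹ by group, e', mul_inv_cancel] at h3
    exact invol_ne_one T.ht h3.symm
  · rw [show y' * y * y'⁻¹ * y⁻¹ = y' * (y * y' * y⁻¹)⁻¹ by group, e', inv_inv, hy'] at h3
    exact hne h3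

theorem pair_commute {P : Subgroup G} (hP : IsPGroup 2 P) (htP : t ∈ P) {g : G}
    (hgP : g * t * g⁻¹ ∈ P) : Commute (g * t * g⁻¹) t := by
  set d := g * t * g⁻¹ with hd
  by_contra hnc
  have hdo : orderOf d = 2 := by rw [hd, orderOf_conj_eq, T.ht]
  obtain ⟨k, hk⟩ : ∃ k, orderOf (t * d) = 2 ^ k := by
    obtain ⟨k, hk⟩ := hP ⟨t * d, mul_mem htP hgP⟩
    have h1 : orderOf (t * d) ∣ 2 ^ k := orderOf_dvd_of_pow_eq_one (congrArg Subtype.val hk)
    obtain ⟨j, -, hj⟩ := (Nat.dvd_prime_pow Nat.prime_two).1 h1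
    exact ⟨j, hj⟩
  have hk2 : 2 ≤ k := by
    by_contra hlt
    refine hnc ?_
    have h1 : (t * d) ^ 2 = 1 := orderOf_dvd_iff_pow_eq_one.1
      (hk ▸ (Nat.pow_dvd_pow 2 (show k ≤ 1 by omega)).trans (dvd_of_eq (pow_one 2)))
    rw [pow_two] at h1
    have h2 := inv_eq_of_mul_eq_one_right h1
    rw [mul_inv_rev, invol_inv T.ht, invol_inv hdo] at h2
    exact h2
  set r := (t * d) ^ (2 ^ (k - 2)) with hrd
  have hr4 : orderOf r = 4 := by
    rw [hrd, orderOf_pow' _ (by positivity), hk,
      Nat.gcd_eq_right (Nat.pow_dvd_pow 2 (by omega : k - 2 ≤ k)),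
      Nat.pow_div (by omega) (by norm_num), show k - (k - 2) = 2 by omega]
  have hrinv : t * r * t⁻¹ = r⁻¹ := conj_pow_inv (conj_left_mul T.ht hdo) _
  set i := r * r with hid
  have hio : orderOf i = 2 := by
    rw [hid, ← pow_two, orderOf_pow' _ (by norm_num), hr4]; norm_num
  have hii := invol_inv hio
  set v := r * t * r⁻¹ with hvd
  have hv : v = t * i := by
    have h1 : r * t = t * r⁻¹ := by
      rw [← hrinv, invol_inv T.ht, ← mul_assoc, ← mul_assoc, invol_mul_self T.ht, one_mul]
    rw [hvd, h1, mul_assoc, ← mul_inv_rev, ← hid, hii]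
  have hti : Commute t i := by
    refine mul_inv_eq_iff_eq_mul.1 ?_
    rw [hid, show t * (r * r) * t⁻¹ = (t * r * t⁻¹) * (t * r * t⁻¹) by group, hrinv, ← mul_inv_rev,
      ← hid, hii]
  have hvc : Commute v t := hv.symm ▸ (Commute.refl t).mul_left hti.symm
  have hvne : v ≠ t := fun e => invol_ne_one hio (mul_eq_left.1 (hv.symm.trans e))
  have hxv : Commute x v := (T.conj_commute_root h hvc T.hx).symm
  set x' := r * x * r⁻¹ with hxd
  have hx' : x' * x' = v := by rw [hxd, hvd, ← T.hx]; group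
  have hcx : Commute x x' := T.commute_roots_two h hvc hvne T.hx hx'
  have hyy : x * x'⁻¹ * (x * x'⁻¹) = i := by
    rw [hcx.inv_right.symm.mul_mul_mul_comm, T.hx, ← mul_inv_rev, hx', hv, mul_inv_rev, hii,
      invol_inv T.ht, ← mul_assoc, hti.eq, mul_assoc, invol_mul_self T.ht, mul_one]
  have hxt : Commute x t := T.hx ▸ (Commute.refl x).mul_right (Commute.refl x)
  have hxi : Commute x i := by
    have h1 := hxt.inv_right.mul_right (hv ▸ hxv : Commute x (t * i))
    rwa [inv_mul_cancel_left] at h1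
  have h1 : x * r * x⁻¹ * r⁻¹ = x * x'⁻¹ := by rw [hxd]; group
  rcases h.toHyp.root_conj hio rfl hxi with e | e <;> rw [e] at h1
  · rw [mul_inv_cancel] at h1
    rw [← h1, one_mul] at hyy
    exact invol_ne_one hio hyy.symm
  · rw [← mul_inv_rev, ← hid, hii] at h1
    rw [← h1, invol_mul_self hio] at hyy
    exact invol_ne_one hio hyy.symm

theorem trans_commute {g k : G} (hg : Commute (g * t * g⁻¹) t)
    (hk : Commute (k * t * k⁻¹) (g * t * g⁻¹)) : Commute (k * t * k⁻¹) t :=
  T.pair_commute h (isPGroup_C_conj (g := g) (T.cent_isPGroup h)) (mem_C.2 hg.symm) (mem_C.2 hk)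

theorem contradiction : False := by
  have hpair : ∀ g : G, Commute (g * t * g⁻¹) t → g * t * g⁻¹ ≠ t →
      ∃ x', x' * x' = g * t * g⁻¹ ∧ Commute x x' := fun g hc hne =>
    ⟨g * x * g⁻¹, (T.conj g).hx, T.commute_roots_two h hc hne T.hx (T.conj g).hx⟩
  let M : Subgroup G :=
    { carrier := {g | Commute (g * t * g⁻¹) t}
      one_mem' := by simp
      mul_mem' := fun {g k} hg hk => by
        refine T.trans_commute h hg ?_
        have := (show Commute (k * t * k⁻¹) t from hk).map (MulAut.conj g).toMonoidHom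
        simpa [mul_assoc] using this
      inv_mem' := fun {g} hg => by
        have := (show Commute (g * t * g⁻¹) t from hg).symm.map (MulAut.conj g⁻¹).toMonoidHom
        simpa [mul_assoc] using this }
  have hmemM : ∀ g, g ∈ M ↔ Commute (g * t * g⁻¹) t := fun g => Iff.rfl
  -- involutions of `M` centralize `t`
  have hfix : ∀ r ∈ M, orderOf r = 2 → Commute r t := by
    intro r hrM hr
    by_contra hnc
    have hne : r * t * r⁻¹ ≠ t := fun e => hnc (mul_inv_eq_iff_eq_mul.1 e)
    set x' := r * x * r⁻¹ with hxd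
    have hx' : x' * x' = r * t * r⁻¹ := by rw [hxd, ← T.hx]; group
    have hcx : Commute x x' := T.commute_roots_two h hrM hne T.hx hx'
    set i := t * (r * t * r⁻¹) with hid
    have hio : orderOf i = 2 :=
      invol_mul T.ht (by rw [orderOf_conj_eq, T.ht]) (show Commute (r * t * r⁻¹) t from hrM).symm hne.symm
    have hxxi : x * x' * (x * x') = i := by
      rw [hcx.symm.mul_mul_mul_comm, T.hx, hx']
    have hrx : r * x' * r⁻¹ = x := by
      rw [hxd, show r * (r * x * r⁻¹) * r⁻¹ = r * r * x * (r * r)⁻¹ by group, invol_mul_self hr,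
        one_mul, inv_one, mul_one]
    have hry : Commute r (x * x') := by
      refine mul_inv_eq_iff_eq_mul.1 ?_
      rw [show r * (x * x') * r⁻¹ = (r * x * r⁻¹) * (r * x' * r⁻¹) by group, hrx, ← hxd, hcx.eq]
    have hz : r * (x * x') * (r * (x * x')) = i := by
      rw [hry.symm.mul_mul_mul_comm, invol_mul_self hr, one_mul, hxxi]
    have hxi : Commute x i := hxxi ▸ ((Commute.refl x).mul_right hcx).mul_right
      ((Commute.refl x).mul_right hcx)
    have h1 : x * (r * (x * x')) * x⁻¹ * (r * (x * x'))⁻¹ = x * x'⁻¹ := by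
      have hc' : x * x' * x⁻¹ = x' := by rw [hcx.eq, mul_inv_cancel_right]
      clear_value x'
      rw [show x * (r * (x * x')) * x⁻¹ = x * r * (x * x' * x⁻¹) by group, hc',
        show x * r * x' * (r * (x * x'))⁻¹ = x * (r * x * r⁻¹)⁻¹ by group, ← hxd]
    have hsq : x * x'⁻¹ * (x * x'⁻¹) = i := by
      rw [hcx.inv_right.symm.mul_mul_mul_comm, T.hx, ← mul_inv_rev, hx', hid,
        invol_inv (show orderOf (r * t * r⁻¹) = 2 by rw [orderOf_conj_eq, T.ht])]
    rcases h.toHyp.root_conj hio hz hxi with e | e <;> rw [e] at h1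
    · rw [mul_inv_cancel] at h1
      rw [← h1, one_mul] at hsq
      exact invol_ne_one hio hsq.symm
    · rw [← mul_inv_rev, hz, invol_inv hio] at h1
      rw [← h1, invol_mul_self hio] at hsq
      exact invol_ne_one hio hsq.symm
  obtain ⟨g0, hg0, hg0ne⟩ := h.toHyp.exists_conj_commute T.ht
  have hg0M : g0 ∈ M := hg0.symm
  set d := g0 * t * g0⁻¹ with hd
  have hfixd : ∀ r ∈ M, orderOf r = 2 → Commute r d := by
    intro r hr hro
    have := (hfix (g0⁻¹ * r * g0) (mul_mem (mul_mem (inv_mem hg0M) hr) hg0M)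
      (by rw [orderOf_conj_inv_eq, hro])).map (MulAut.conj g0).toMonoidHom
    simpa [hd, mul_assoc] using this
  have hcent : ∀ r ∈ M, orderOf r = 2 → C r ≤ M := by
    intro r hr hro
    have hP : IsPGroup 2 (C r) := by
      refine isPGroup_of_no_odd fun p hp hp2 b hb hbo => ?_
      rw [mem_C] at hb
      have hbodd : Odd (orderOf b) := hbo ▸ hp.odd_of_ne_two hp2
      have hnot : ∀ g : G, ¬ Commute b (g * t * g⁻¹) := fun g hc =>
        no_odd_of_isPGroup (isPGroup_C_conj (g := g) (T.cent_isPGroup h)) hp hp2 (mem_C.2 hc) hbo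
      have h1 : t * b * t⁻¹ = b⁻¹ :=
        (h.toHyp.prime_cases hp hp2 hbo hro hb T.ht (hfix r hr hro).symm).resolve_left fun e => by
          refine hnot 1 ?_
          simpa using e.symm
      have h2 : d * b * d⁻¹ = b⁻¹ :=
        (h.toHyp.prime_cases hp hp2 hbo hro hb (show orderOf d = 2 by rw [hd, orderOf_conj_eq, T.ht])
          (hfixd r hr hro).symm).resolve_left fun e => hnot g0 e.symm
      obtain ⟨x', hx', hcx⟩ := hpair g0 hg0.symm hg0ne
      rw [← hd] at hx'
      have hio : orderOf (t * d) = 2 :=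
        invol_mul T.ht (by rw [hd, orderOf_conj_eq, T.ht]) hg0 (Ne.symm hg0ne)
      have hbi : Commute b (t * d) := (commute_mul_of_invert h1 h2).symm
      have c1 := h.toHyp.root_odd_commute hio (y := x * x')
        (by rw [hcx.symm.mul_mul_mul_comm, T.hx, hx']) hbi hbodd
      have c2 := h.toHyp.root_odd_commute hio (y := x * x'⁻¹)
        (by rw [hcx.inv_right.symm.mul_mul_mul_comm, T.hx, ← mul_inv_rev, hx',
          invol_inv (show orderOf d = 2 by rw [hd, orderOf_conj_eq, T.ht])]) hbi hbodd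
      have c3 := c1.mul_right c2
      rw [show x * x' * (x * x'⁻¹) = t by
        rw [hcx.symm.mul_mul_mul_comm, T.hx, mul_inv_cancel, mul_one]] at c3
      exact hnot 1 (by simpa using c3)
    intro g hg
    have ht' : t ∈ C r := mem_C.2 (hfix r hr hro).symm
    exact (hmemM g).2 (T.pair_commute h hP ht' (mul_mem (mul_mem hg ht') (inv_mem hg)))
  have htM : t ∈ M := by rw [hmemM, mul_inv_cancel_right]
  have hSE : Cfsg.IsStronglyEmbedded M := by
    refine ⟨fun e => ?_, even_card_of_invol_mem T.ht htM, fun g hg => ?_⟩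
    · obtain ⟨g, hg⟩ := h.toHyp.exists_conj_not_commute T.ht
      exact hg ((hmemM g).1 (e ▸ Subgroup.mem_top g))
    · rw [← Nat.not_even_iff_odd]
      intro hev
      obtain ⟨r, hr, hro⟩ := exists_invol_mem hev
      obtain ⟨hr1, r', hr2, hr3⟩ := hr
      obtain rfl : g * r' * g⁻¹ = r := hr3
      have hro' : orderOf r' = 2 := by rwa [orderOf_conj_eq] at hro
      have h1 : Commute (g * t * g⁻¹) (g * r' * g⁻¹) := by
        have := (hfix r' hr2 hro').symm.map (MulAut.conj g).toMonoidHom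
        simpa [mul_assoc] using this
      exact hg ((hmemM g).2 (hfix _ (hcent _ hr1 hro (mem_C.2 h1)) (by rw [orderOf_conj_eq, T.ht])))
  have hclass : ∀ r : G, orderOf r = 2 → ∃ g : G, g * t * g⁻¹ = r := fun r hr =>
    isConj_iff.1 (se_isConj hSE T.ht hr)
  -- `C(t)` fixes every conjugate of `t` in it
  have key : ∀ n : ℕ, ∀ g : G, orderOf g = n → Commute g t → ∀ k : G,
      Commute (k * t * k⁻¹) t → Commute g (k * t * k⁻¹) := by
    intro n
    induction n using Nat.strong_induction_on with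
    | _ n ih =>
      intro g hgn hgt k hk
      by_contra hne
      set e := k * t * k⁻¹ with hed
      have heo : orderOf e = 2 := by rw [hed, orderOf_conj_eq, T.ht]
      obtain ⟨a, ha⟩ := (T.cent_isPGroup h) ⟨g, mem_C.2 hgt⟩
      obtain ⟨j, -, hj⟩ := (Nat.dvd_prime_pow Nat.prime_two).1
        (orderOf_dvd_of_pow_eq_one (congrArg Subtype.val ha) : orderOf g ∣ 2 ^ a)
      have hg1 : g ≠ 1 := fun e1 => hne (e1 ▸ Commute.one_left _)
      have hj0 : j ≠ 0 := fun e1 => hg1 (orderOf_eq_one_iff.1 (by rw [hj, e1, pow_zero]))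
      have h2 : 2 ∣ orderOf g := by rw [hj]; exact dvd_pow_self 2 hj0
      have hj1 : j ≠ 1 := fun e1 => hne (by
        have hgo : orderOf g = 2 := by rw [hj, e1, pow_one]
        have hgM : g ∈ M := by rw [hmemM, hgt.eq, mul_inv_cancel_right]
        have := (hfix (k⁻¹ * g * k) (mul_mem (mul_mem (inv_mem ((hmemM k).2 hk)) hgM) ((hmemM k).2 hk))
          (by rw [orderOf_conj_inv_eq, hgo])).map (MulAut.conj k).toMonoidHom
        simpa [hed, mul_assoc] using this)
      have hg2 : Commute (g ^ 2) e := by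
        refine ih (orderOf (g ^ 2)) ?_ (g ^ 2) rfl (hgt.pow_left 2) k hk
        rw [orderOf_pow' _ two_ne_zero, Nat.gcd_eq_right h2, ← hgn]
        exact Nat.div_lt_self (orderOf_pos g) (by norm_num)
      set m := orderOf g / 2 with hm
      have hg0o : orderOf (g ^ m) = 2 := orderOf_pow_orderOf_div (orderOf_pos g).ne' h2
      have hm2 : 2 ∣ m := by
        rw [hm, hj, show j = j - 2 + 1 + 1 by omega, pow_succ, Nat.mul_div_cancel _ two_pos]
        exact dvd_pow_self 2 (by omega)
      have hg0e : Commute (g ^ m) e := by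
        obtain ⟨q, hq⟩ := hm2
        rw [hq, pow_mul]; exact hg2.pow_left _
      obtain ⟨q, hq⟩ := hclass _ hg0o
      -- a root of `e` normalizes `⟨g⟩`
      set x' := k * x * k⁻¹ with hxd
      have hx' : x' * x' = e := by rw [hxd, hed, ← T.hx]; group
      have hx'g0 : Commute x' (g ^ m) := by
        have hc' : Commute (k⁻¹ * q * t * (k⁻¹ * q)⁻¹) t := by
          have := hg0e.map (MulAut.conj k⁻¹).toMonoidHom
          simpa [← hq, hed, mul_assoc] using this
        have := (T.conj_commute_root h hc' T.hx).symm.map (MulAut.conj k).toMonoidHom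
        simpa [← hq, hxd, mul_assoc] using this
      have hN : x' ∈ Subgroup.normalizer (Subgroup.zpowers g : Set G) := by
        rw [h.toHyp.normalizer_eq hg0o (Subgroup.npow_mem_zpowers g m) (Subgroup.mem_zpowers g) hg1]
        exact mem_C.2 hx'g0
      set x'' := g * x' * g⁻¹ with hx''d
      set e' := g * e * g⁻¹ with he'd
      have hx'' : x'' * x'' = e' := by rw [hx''d, he'd, ← hx']; group
      have hcg : x' * x''⁻¹ ∈ Subgroup.zpowers g := by
        have := mul_mem ((Subgroup.mem_normalizer_iff.1 hN g).1 (Subgroup.mem_zpowers g))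
          (inv_mem (Subgroup.mem_zpowers g))
        rwa [show x' * g * x'⁻¹ * g⁻¹ = x' * x''⁻¹ by rw [hx''d]; group] at this
      have hfixc : g * (x' * x''⁻¹) * g⁻¹ = x' * x''⁻¹ := by
        obtain ⟨z, hz⟩ := Subgroup.mem_zpowers_iff.1 hcg
        rw [← hz, ((Commute.refl g).zpow_right z).eq, mul_inv_cancel_right]
      have h3 : g ^ 2 * x' * (g ^ 2)⁻¹ = x'' * x'⁻¹ * x'' := by
        have h4 : x'' * (g * x'' * g⁻¹)⁻¹ = x' * x''⁻¹ := by
          refine Eq.trans ?_ hfixc
          rw [hx''d]; group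
        have h5 : g * x'' * g⁻¹ = x'' * x'⁻¹ * x'' := by
          calc g * x'' * g⁻¹ = (x''⁻¹ * (x'' * (g * x'' * g⁻¹)⁻¹))⁻¹ := by group
            _ = (x''⁻¹ * (x' * x''⁻¹))⁻¹ := by rw [h4]
            _ = x'' * x'⁻¹ * x'' := by group
        rw [← h5, hx''d, pow_two]; group
      have he'ne : e' ≠ e := fun e1 => hne (mul_inv_eq_iff_eq_mul.1 (he'd ▸ e1))
      have hee : Commute e' e := by
        have hgkM : g * k ∈ M := mul_mem
          (by rw [hmemM, hgt.eq, mul_inv_cancel_right] : g ∈ M) ((hmemM k).2 hk)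
        have := (hmemM (k⁻¹ * (g * k))).1 (mul_mem (inv_mem ((hmemM k).2 hk)) hgkM)
        have h6 := this.map (MulAut.conj k).toMonoidHom
        simpa [he'd, hed, mul_assoc] using h6
      have hcx : Commute x' x'' := by
        have hgk : g * k * k⁻¹ = g := by group
        refine (T.conj k).commute_roots_two h (g := g) ?_ ?_ (by rw [hx', hed]) ?_
        · simpa [hed, he'd] using hee
        · simpa [hed, he'd] using he'ne
        · rw [hx'', he'd, hed]
      clear_value x'' e'
      rcases h.toHyp.root_conj heo hx' hg2 with e1 | e1 <;> rw [e1] at h3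
      · apply he'ne
        rw [← hx'', ← hx']
        calc x'' * x'' = x' * (x'' * x'⁻¹ * x'') := by
              rw [← mul_assoc, ← mul_assoc, hcx.eq, mul_inv_cancel_right]
          _ = x' * x' := by rw [← h3]
      · apply invol_ne_one (show orderOf e' = 2 by rw [he'd, orderOf_conj_eq, heo])
        rw [← hx'']
        have h7 : x' * (x'' * x'⁻¹ * x'') = 1 := by rw [← h3, mul_inv_cancel]
        rwa [← mul_assoc, ← mul_assoc, hcx.eq, mul_inv_cancel_right] at h7
  obtain ⟨r, hr, hrt, hrne⟩ := h.nc t T.ht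
  obtain ⟨k, rfl⟩ := hclass r hr
  apply hrne
  refine le_antisymm (fun g hg => ?_) fun g hg => mem_C.2 (key _ g rfl (mem_C.1 hg) k hrt)
  have h1 : Commute (k⁻¹ * g * k) t := mem_C.1 (mem_C_conj.1 hg)
  have h2 : Commute (k⁻¹ * t * k⁻¹⁻¹) t := by
    have := hrt.symm.map (MulAut.conj k⁻¹).toMonoidHom
    simpa [mul_assoc] using this
  have h3 := (key _ _ rfl h1 k⁻¹ h2).map (MulAut.conj k).toMonoidHom
  rw [mem_C]
  simpa [mul_assoc] using h3

end Triple

/-- A root of an involution is centralized by no other involution. -/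
theorem Hyp2.invol_eq_of_commute_root {G : Type u} [Group G] [Finite G] (h : Hyp2 G) {t w x : G}
    (ht : orderOf t = 2) (hw : orderOf w = 2) (hx : x * x = t) (hwx : Commute w x) : w = t := by
  by_contra hne
  exact (Triple.mk ht hx hw hwx hne).contradiction h

end CfsgLib.NormEven
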