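import Cfsg.Agent.Lib.InvChar.NormEven.Root

/-!
The centralizer of an involution is an abelian TI subgroup with one involution, extended by an
involution inverting it.
-/

set_option autoImplicit false
set_option linter.unusedSectionVars false

namespace CfsgLib.NormEven.Hyp2

open CfsgLib.Invol

universe u

variable {G : Type u} [Group G] [Finite G] (h : Hyp2 G)
include h

omit h [Finite G] in
theorem sq_of_orderOf_le {g : G} (hg : orderOf g ≤ 2) (hpos : 0 < orderOf g) : g * g = 1 := by
  rw [← pow_two]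
  refine orderOf_dvd_iff_pow_eq_one.1 ?_
  rcases (show orderOf g = 1 ∨ orderOf g = 2 by omega) with e | e <;> rw [e]
  norm_num

omit h [Finite G] in
theorem orderOf_le_of_sq {g : G} (hg : g * g = 1) : orderOf g ≤ 2 :=
  Nat.le_of_dvd two_pos (orderOf_dvd_of_pow_eq_one (by rw [pow_two, hg]))

theorem invol_eq {g t s : G} (ht : orderOf t = 2) (hs : orderOf s = 2) (hgt : Commute g t)
    (hgs : Commute g s) (hg : 2 < orderOf g) : s = t := by
  obtain ⟨ν, m, hm2, hm⟩ := Nat.exists_eq_pow_mul_and_not_dvd (orderOf_pos g).ne' 2 (by norm_num)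
  by_cases hm1 : m = 1
  · rw [hm1, mul_one] at hm
    have hν : 2 ≤ ν := by
      by_contra hlt
      have := Nat.pow_le_pow_right two_pos (show ν ≤ 1 by omega)
      omega
    set y := g ^ (2 ^ (ν - 2)) with hy
    have hy4 : orderOf y = 4 := by
      rw [hy, orderOf_pow' _ (by positivity), hm,
        Nat.gcd_eq_right (Nat.pow_dvd_pow 2 (by omega : ν - 2 ≤ ν)),
        Nat.pow_div (by omega) (by norm_num), show ν - (ν - 2) = 2 by omega]
    have hyo : orderOf (y * y) = 2 := by
      rw [← pow_two, orderOf_pow' _ (by norm_num), hy4]; norm_num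
    rw [h.invol_eq_of_commute_root hyo hs rfl (hgs.pow_left _).symm,
      h.invol_eq_of_commute_root hyo ht rfl (hgt.pow_left _).symm]
  · have hodd : Odd m := Nat.not_even_iff_odd.1 (mt even_iff_two_dvd.1 hm2)
    refine h.invol_eq_of_commute_odd ht hs (a := g ^ (2 ^ ν)) (hodd.of_dvd_nat
      (orderOf_dvd_of_pow_eq_one (by rw [← pow_mul, ← hm, pow_orderOf_eq_one]))) (fun e => ?_)
      (hgt.pow_left _) (hgs.pow_left _)
    have h1 := Nat.le_of_dvd (by positivity) (orderOf_dvd_of_pow_eq_one e)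
    rw [hm] at h1
    have : 2 ≤ m := by
      rcases m with _ | _ | m
      · exact absurd (dvd_zero 2) hm2
      · exact absurd rfl hm1
      · omega
    nlinarith [Nat.one_le_two_pow (n := ν)]

theorem big_normalizer {g t : G} (ht : orderOf t = 2) (hgt : Commute g t) (hg : 2 < orderOf g) :
    Subgroup.normalizer (Subgroup.zpowers g : Set G) = C t := by
  have hg1 : g ≠ 1 := fun e => by rw [e, orderOf_one] at hg; omega
  rcases Nat.even_or_odd (orderOf g) with he | ho
  · have hio := orderOf_pow_orderOf_div (orderOf_pos g).ne' (even_iff_two_dvd.1 he)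
    have := h.invol_eq ht hio hgt ((Commute.refl g).pow_right _) hg
    exact h.toHyp.normalizer_eq ht (this ▸ Subgroup.npow_mem_zpowers _ _) (Subgroup.mem_zpowers g) hg1
  · exact h.toHyp.odd_normalizer ht hgt ho hg1

theorem invert {g t s : G} (ht : orderOf t = 2) (hs : orderOf s = 2) (hst : Commute s t)
    (hne : s ≠ t) (hgt : Commute g t) (hg : 2 < orderOf g) : s * g * s⁻¹ = g⁻¹ := by
  have hsi := invol_inv hs
  have hss := invol_mul_self hs
  by_cases h1 : s * g * (s * g) = 1
  · rw [hsi]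
    exact eq_inv_of_mul_eq_one_left (by rw [← h1]; group)
  exfalso
  have hbig : 2 < orderOf (s * g) := by
    by_contra hle
    exact h1 (sq_of_orderOf_le (not_lt.1 hle) (orderOf_pos _))
  have hgN : g ∈ Subgroup.normalizer (Subgroup.zpowers (s * g) : Set G) := by
    rw [h.big_normalizer ht (hst.mul_left hgt) hbig]; exact mem_C.2 hgt
  obtain ⟨n, hn⟩ := Subgroup.mem_zpowers_iff.1
    ((Subgroup.mem_normalizer_iff.1 hgN _).1 (Subgroup.mem_zpowers (s * g)))
  have hc : Commute (g * s) (s * g) := by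
    rw [show g * s = g * (s * g) * g⁻¹ by group, ← hn]
    exact (Commute.refl (s * g)).zpow_left n
  have h3 : g * g = s * (g * g) * s⁻¹ := by
    have h4 := hc.eq
    rw [show g * s * (s * g) = g * (s * s) * g by group, hss, mul_one] at h4
    rw [hsi]
    rw [show s * g * (g * s) = s * (g * g) * s by group] at h4
    exact h4
  have hs2 : Commute s (g * g) := mul_inv_eq_iff_eq_mul.1 h3.symm
  by_cases hb : 2 < orderOf (g * g)
  · exact hne (h.invol_eq ht hs (hgt.mul_left hgt) hs2.symm hb)
  have hne1 : g * g ≠ 1 := fun e => absurd (orderOf_le_of_sq e) (by omega)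
  have hi : orderOf (g * g) = 2 :=
    invol_of_mul_self (sq_of_orderOf_le (not_lt.1 hb) (orderOf_pos _)) hne1
  have hit : g * g = t := h.invol_eq ht hi hgt ((Commute.refl g).mul_right (Commute.refl g)) hg
  rcases h.toHyp.root_conj ht hit hst with e | e
  · exact hne (h.invol_eq ht hs hgt (mul_inv_eq_iff_eq_mul.1 e : s * g = g * s).symm hg)
  · apply h1
    rw [hsi] at e
    rw [show s * g * (s * g) = s * g * s * g by group, e, inv_mul_cancel]

theorem commute_big {g k t : G} (ht : orderOf t = 2) (hgt : Commute g t) (hkt : Commute k t)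
    (hg : 2 < orderOf g) (hk : 2 < orderOf k) : Commute g k := by
  obtain ⟨r, hr, hrt, hrne⟩ := h.nc t ht
  have hne : r ≠ t := fun e => hrne (by rw [e])
  have hr1 := h.invert ht hr hrt hne hgt hg
  have hr2 := h.invert ht hr hrt hne hkt hk
  by_cases hp : 2 < orderOf (g * k)
  · have hr3 := h.invert ht hr hrt hne (hgt.mul_left hkt) hp
    rw [show r * (g * k) * r⁻¹ = (r * g * r⁻¹) * (r * k * r⁻¹) by group, hr1, hr2, mul_inv_rev] at hr3
    exact Commute.inv_inv_iff.1 hr3
  by_cases h1 : g * k = 1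
  · rw [eq_inv_of_mul_eq_one_right h1]; exact (Commute.refl g).inv_right
  have hio : orderOf (g * k) = 2 :=
    invol_of_mul_self (sq_of_orderOf_le (not_lt.1 hp) (orderOf_pos _)) h1
  by_cases hit : g * k = t
  · rw [show k = g⁻¹ * t by rw [← hit]; group]
    exact (Commute.refl g).inv_right.mul_right hgt
  exfalso
  have hi := h.invert ht hio (hgt.mul_left hkt) hit hgt hg
  have hkk : k * k = 1 := by
    calc k * k = g⁻¹ * ((g * k) * g⁻¹ * (g * k)⁻¹) * ((g * k) * (g * k)) := by group
      _ = 1 := by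
        rw [invol_mul_self hio, mul_one, show g * k * g⁻¹ * (g * k)⁻¹ = (g * k * g * (g * k)⁻¹)⁻¹ by
          group, hi, inv_inv, inv_mul_cancel]
  exact absurd (orderOf_le_of_sq hkk) (by omega)

/-- The abelian part of the centralizer. -/
def K (t : G) (ht : orderOf t = 2) : Subgroup G where
  carrier := {g | Commute g t ∧ (g = 1 ∨ g = t ∨ 2 < orderOf g)}
  one_mem' := ⟨Commute.one_left t, Or.inl rfl⟩
  inv_mem' := fun {g} hg => ⟨hg.1.inv_left, by
    rcases hg.2 with e | e | e
    · exact Or.inl (by rw [e, inv_one])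
    · exact Or.inr (Or.inl (by rw [e, invol_inv ht]))
    · exact Or.inr (Or.inr (by rwa [orderOf_inv]))⟩
  mul_mem' := fun {g k} hg hk => by
    refine ⟨hg.1.mul_left hk.1, ?_⟩
    have hgk : Commute g k := by
      rcases hg.2 with rfl | rfl | e
      · exact Commute.one_left k
      · exact hk.1.symm
      rcases hk.2 with rfl | rfl | e'
      · exact Commute.one_right g
      · exact hg.1
      exact h.commute_big ht hg.1 hk.1 e e'
    by_cases hp : 2 < orderOf (g * k)
    · exact Or.inr (Or.inr hp)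
    by_cases h1 : g * k = 1
    · exact Or.inl h1
    have hio : orderOf (g * k) = 2 :=
      invol_of_mul_self (sq_of_orderOf_le (not_lt.1 hp) (orderOf_pos _)) h1
    rcases hg.2 with rfl | e | e
    · simpa using hk.2
    · rcases hk.2 with rfl | e' | e'
      · exact Or.inr (Or.inl (by rw [mul_one, e]))
      · exact Or.inl (by rw [e, e', invol_mul_self ht])
      · exact Or.inr (Or.inl (h.invol_eq ht hio hk.1
          (hgk.symm.mul_right (Commute.refl k)) e'))
    · exact Or.inr (Or.inl (h.invol_eq ht hio hg.1 ((Commute.refl g).mul_right hgk) e))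

variable {t : G} (ht : orderOf t = 2)
include ht

theorem mem_K {g : G} : g ∈ h.K t ht ↔ Commute g t ∧ (g = 1 ∨ g = t ∨ 2 < orderOf g) := Iff.rfl

theorem K_le : h.K t ht ≤ C t := fun _ hg => mem_C.2 hg.1

theorem t_mem_K : t ∈ h.K t ht := ⟨Commute.refl t, Or.inr (Or.inl rfl)⟩

theorem K_comm {g k : G} (hg : g ∈ h.K t ht) (hk : k ∈ h.K t ht) : Commute g k := by
  rcases hg.2 with rfl | rfl | e
  · exact Commute.one_left k
  · exact hk.1.symm
  rcases hk.2 with rfl | rfl | e'
  · exact Commute.one_right g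
  · exact hg.1
  exact h.commute_big ht hg.1 hk.1 e e'

theorem invol_in_K {g : G} (hg : g ∈ h.K t ht) (hgo : orderOf g = 2) : g = t := by
  rcases hg.2 with rfl | e | e
  · rw [orderOf_one] at hgo; omega
  · exact e
  · omega

theorem outside {c : G} (hc : Commute c t) (hcK : c ∉ h.K t ht) :
    orderOf c = 2 ∧ ∀ k ∈ h.K t ht, c * k * c⁻¹ = k⁻¹ := by
  rw [h.mem_K ht] at hcK
  push Not at hcK
  obtain ⟨h1, h2, h3⟩ := hcK hc
  have hco : orderOf c = 2 := invol_of_mul_self (sq_of_orderOf_le h3 (orderOf_pos _)) h1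
  refine ⟨hco, fun k hk => ?_⟩
  rcases hk.2 with rfl | rfl | e
  · simp
  · rw [hc.eq, mul_inv_cancel_right, invol_inv ht]
  · exact h.invert ht hco hc h2 hk.1 e

theorem exists_outside : ∃ s : G, orderOf s = 2 ∧ Commute s t ∧ s ∉ h.K t ht := by
  obtain ⟨r, hr, hrt, hrne⟩ := h.nc t ht
  exact ⟨r, hr, hrt, fun hK => hrne (by rw [h.invol_in_K ht hK hr])⟩

theorem mul_mem_K {c d : G} (hc : Commute c t) (hcK : c ∉ h.K t ht) (hd : Commute d t)
    (hdK : d ∉ h.K t ht) : c * d ∈ h.K t ht := by
  obtain ⟨hco, hci⟩ := h.outside ht hc hcK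
  obtain ⟨hdo, hdi⟩ := h.outside ht hd hdK
  refine ⟨hc.mul_left hd, ?_⟩
  by_cases hp : 2 < orderOf (c * d)
  · exact Or.inr (Or.inr hp)
  by_cases h1 : c * d = 1
  · exact Or.inl h1
  right; left
  have hio : orderOf (c * d) = 2 :=
    invol_of_mul_self (sq_of_orderOf_le (not_lt.1 hp) (orderOf_pos _)) h1
  by_cases hex : ∃ g, Commute g t ∧ 2 < orderOf g
  · obtain ⟨g, hgt, hg⟩ := hex
    have hgK : g ∈ h.K t ht := ⟨hgt, Or.inr (Or.inr hg)⟩
    exact h.invol_eq ht hio hgt (commute_mul_of_invert (hci g hgK) (hdi g hgK)).symm hg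
  push Not at hex
  have helem : ∀ g, Commute g t → g * g = 1 := fun g hg =>
    sq_of_orderOf_le (hex g hg) (orderOf_pos g)
  have hcomm : ∀ g k, Commute g t → Commute k t → Commute g k := by
    intro g k hg hk
    have e := helem _ (hg.mul_left hk)
    have eg : g⁻¹ = g := inv_eq_of_mul_eq_one_right (helem g hg)
    have ek : k⁻¹ = k := inv_eq_of_mul_eq_one_right (helem k hk)
    show g * k = k * g
    rw [← inv_eq_of_mul_eq_one_right e, mul_inv_rev, eg, ek]
  obtain ⟨r, hr, hrt, hrne⟩ := h.nc t ht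
  obtain ⟨g, hgr, hg⟩ : ∃ g, Commute g r ∧ 2 < orderOf g := by
    by_contra! hcon
    refine hrne (le_antisymm (fun g hg => ?_) fun g hg => mem_C.2 (hcomm g r (mem_C.1 hg) hrt))
    rw [mem_C] at hg
    have e := sq_of_orderOf_le (hcon _ (hg.mul_left hrt.symm)) (orderOf_pos (g * t))
    have eg : g⁻¹ = g := inv_eq_of_mul_eq_one_right
      (sq_of_orderOf_le (hcon g hg) (orderOf_pos g))
    rw [mem_C]
    show g * t = t * g
    rw [← inv_eq_of_mul_eq_one_right e, mul_inv_rev, eg, invol_inv ht]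
  have hgK : g ∈ h.K r hr := ⟨hgr, Or.inr (Or.inr hg)⟩
  have hinv : ∀ u, orderOf u = 2 → Commute u t → u ≠ r → u * g * u⁻¹ = g⁻¹ := fun u hu hut hur =>
    h.invert hr hu (hcomm u r hut hrt) hur hgr hg
  have hcl : ∀ u, orderOf u = 2 → Commute u t → u ≠ t → u = r ∨ t * u = r := by
    intro u hu hut hut'
    by_cases hur : u = r
    · exact Or.inl hur
    · have htr : t ≠ r := fun e => hrne (by rw [e])
      have hio' := invol_mul ht hu hut.symm (Ne.symm hut')
      exact Or.inr (h.invol_eq hr hio' hgr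
        (commute_mul_of_invert (hinv t ht (Commute.refl t) htr) (hinv u hu hut hur)).symm hg)
  have hct : c ≠ t := fun e => hcK (e ▸ h.t_mem_K ht)
  have hdt : d ≠ t := fun e => hdK (e ▸ h.t_mem_K ht)
  rcases hcl c hco hc hct with e1 | e1 <;> rcases hcl d hdo hd hdt with e2 | e2
  · exact absurd (by rw [e1, e2, invol_mul_self hr]) h1
  · rw [e1, ← e2, mul_assoc, invol_mul_self hdo, mul_one]
  · rw [e2, ← e1, ← mul_assoc, hc.eq, mul_assoc, invol_mul_self hco, mul_one]
  · exact absurd (by rw [← e1] at e2; rw [mul_left_cancel e2, invol_mul_self hco]) h1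

theorem K_normalizer {k : G} (hk : k ∈ h.K t ht) (hk1 : k ≠ 1) :
    Subgroup.normalizer (Subgroup.zpowers k : Set G) = C t := by
  rcases hk.2 with e | e | e
  · exact absurd e hk1
  · rw [e]; exact Hyp.normalizer_invol ht
  · exact h.big_normalizer ht hk.1 e

theorem K_TI {g k : G} (hk : k ∈ h.K t ht) (hk1 : k ≠ 1) (hgk : g⁻¹ * k * g ∈ h.K t ht) :
    Commute g t := by
  set k' := g⁻¹ * k * g with hk'
  have hk'1 : k' ≠ 1 := fun e => hk1 (by
    rw [show k = g * k' * g⁻¹ by rw [hk']; group, e, mul_one, mul_inv_cancel])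
  have hN : ∀ z : G, z ∈ C t ↔ g * z * g⁻¹ ∈ C t := by
    intro z
    nth_rewrite 1 [← h.K_normalizer ht hgk hk'1]
    rw [← h.K_normalizer ht hk hk1, Subgroup.mem_normalizer_iff, Subgroup.mem_normalizer_iff]
    have hmap : ∀ a : G, a ∈ Subgroup.zpowers k' ↔ g * a * g⁻¹ ∈ Subgroup.zpowers k := by
      intro a
      rw [Subgroup.mem_zpowers_iff, Subgroup.mem_zpowers_iff]
      refine exists_congr fun n => ?_
      rw [show k' ^ n = g⁻¹ * k ^ n * g by
        rw [hk', show g⁻¹ * k * g = g⁻¹ * k * g⁻¹⁻¹ by group, conj_zpow, inv_inv]]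
      constructor
      · rintro rfl; group
      · intro e; rw [e]; group
    constructor
    · intro hz a
      have := hz (g⁻¹ * a * g)
      rw [hmap, hmap] at this
      simpa [mul_assoc] using this
    · intro hz a
      rw [hmap, hmap]
      simpa [mul_assoc] using hz (g * a * g⁻¹)
  set u := g * t * g⁻¹ with hu
  have huo : orderOf u = 2 := by rw [hu, orderOf_conj_eq, ht]
  have hut : Commute u t := mem_C.1 ((hN t).1 (mem_C.2 (Commute.refl t)))
  by_cases huK : u ∈ h.K t ht
  · exact mul_inv_eq_iff_eq_mul.1 (h.invol_in_K ht huK huo)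
  exfalso
  have hsq : ∀ z ∈ h.K t ht, z * z = 1 := by
    intro z hz
    have h1 : g⁻¹ * z * g ∈ C t := (hN _).2 (by simpa [mul_assoc] using mem_C.2 hz.1)
    have h2 : Commute z u := by
      simpa [hu, mul_assoc] using (mem_C.1 h1).map (MulAut.conj g).toMonoidHom
    have h3 := (h.outside ht hut huK).2 z hz
    rw [h2.symm.eq, mul_inv_cancel_right] at h3
    nth_rewrite 1 [h3]
    exact inv_mul_cancel z
  have hko : ∀ z ∈ h.K t ht, z ≠ 1 → z = t := fun z hz hz1 =>
    h.invol_in_K ht hz (invol_of_mul_self (hsq z hz) hz1)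
  have h4 : g⁻¹ * t * g = t := by
    have := hko k' hgk hk'1
    rwa [hk', hko k hk hk1] at this
  refine huK ?_
  have : u = t := by
    rw [hu]
    nth_rewrite 1 [← h4]
    group
  rw [this]
  exact h.t_mem_K ht

end CfsgLib.NormEven.Hyp2
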